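import Mathlib
import Cfsg.Agent.Lib.Involution.Dihedral

/-!
# A trivial intersection subgroup with odd centralisers and many involutions

`M` meets its other conjugates trivially, its elements have centralisers of odd order, its normaliser
is `M` times the centraliser of an involution `z` there, and there are more involutions than cosets
of `M`.  Then every coset of `M` outside the normaliser holds exactly one involution.
-/

set_option autoImplicit false
set_option linter.unusedSectionVars false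

open Subgroup
open scoped Pointwise

namespace CfsgLib.Characterizations.TICount

open CfsgLib.Involution.Dihedral

variable {G : Type*} [Group G]

/-- The normaliser. -/
abbrev nn (M : Subgroup G) : Subgroup G := Subgroup.normalizer (M : Set G)

/-- The centraliser of `z` in the normaliser. -/
abbrev cc (M : Subgroup G) (z : G) : Subgroup G := nn M ⊓ Subgroup.centralizer ({z} : Set G)

/-- The hypotheses. -/
structure Hyp (M : Subgroup G) (z : G) : Prop where
  ne : M ≠ ⊥
  ti : ∀ g : G, M ⊓ M.map (MulAut.conj g).toMonoidHom ≠ ⊥ → M.map (MulAut.conj g).toMonoidHom = M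
  hz : orderOf z = 2
  hzN : z ∈ nn M
  fac : M ⊔ cc M z = nn M
  odd : ∀ x ∈ M, x ≠ 1 → Odd (Nat.card ↥(Subgroup.centralizer ({x} : Set G)))
  not_normal : ¬ M.Normal
  many : M.index < Nat.card {g : G // orderOf g = 2}

namespace Hyp

variable {M : Subgroup G} {z : G} (h : Hyp M z)
include h

theorem mem_nn_of_conj_mem {g x : G} (hx : x ∈ M) (hx1 : x ≠ 1) (hgx : g * x * g⁻¹ ∈ M) :
    g ∈ nn M := by
  have hne : M ⊓ M.map (MulAut.conj g).toMonoidHom ≠ ⊥ := fun e => by
    have hm : g * x * g⁻¹ ∈ M ⊓ M.map (MulAut.conj g).toMonoidHom := ⟨hgx, x, hx, rfl⟩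
    rw [e, Subgroup.mem_bot, conj_eq_one_iff] at hm
    exact hx1 hm
  have e := h.ti g hne
  rw [Subgroup.mem_normalizer_iff]
  intro y
  constructor
  · exact fun hy => e.le ⟨y, hy, rfl⟩
  · intro hy
    obtain ⟨w, hw, hwy⟩ := e.ge hy
    exact (MulAut.conj g).injective hwy ▸ hw

theorem mem_nn_of_commute {g x : G} (hx : x ∈ M) (hx1 : x ≠ 1) (hgx : Commute g x) : g ∈ nn M :=
  h.mem_nn_of_conj_mem hx hx1 (by rwa [hgx.eq, mul_inv_cancel_right])

theorem eq_one_of_commute [Finite G] {v x : G} (hv : orderOf v = 2) (hx : x ∈ M) (hvx : Commute v x) :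
    x = 1 := by
  by_contra hx1
  have hd : orderOf v ∣ Nat.card ↥(Subgroup.centralizer ({x} : Set G)) := by
    rw [← Subgroup.orderOf_mk (H := Subgroup.centralizer ({x} : Set G)) v
      (Subgroup.mem_centralizer_singleton_iff.2 hvx.eq)]
    exact orderOf_dvd_natCard _
  rw [hv] at hd
  exact Nat.not_even_iff_odd.2 (h.odd x hx hx1) (even_iff_two_dvd.2 hd)

theorem conj_mem {g x : G} (hg : g ∈ nn M) (hx : x ∈ M) : g * x * g⁻¹ ∈ M :=
  (Subgroup.mem_normalizer_iff.1 hg x).1 hx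

variable [Finite G]

theorem odd_card : Odd (Nat.card M) := by
  by_contra hne
  rw [Nat.not_odd_iff_even, even_iff_two_dvd] at hne
  haveI : Fact (Nat.Prime 2) := ⟨Nat.prime_two⟩
  obtain ⟨x, hx⟩ := exists_prime_orderOf_dvd_card' 2 hne
  have hx2 : orderOf (x : G) = 2 := by rw [Subgroup.orderOf_coe, hx]
  exact ne_one hx2 (h.eq_one_of_commute hx2 x.2 (Commute.refl _))

theorem three_le : 3 ≤ Nat.card M := by
  have h1 : 1 < Nat.card M := (Subgroup.one_lt_card_iff_ne_bot M).2 h.ne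
  obtain ⟨r, hr⟩ := h.odd_card
  omega

theorem odd_order {x : G} (hx : x ∈ M) : Odd (orderOf x) := by
  refine h.odd_card.of_dvd_nat ?_
  rw [← Subgroup.orderOf_mk (H := M) x hx]
  exact orderOf_dvd_natCard _

/-- Every involution of the normaliser inverts `M`. -/
theorem inverts {v : G} (hv : orderOf v = 2) (hvN : v ∈ nn M) {x : G} (hx : x ∈ M) :
    v * x * v⁻¹ = x⁻¹ := by
  let f : M → M := fun y => ⟨(y : G)⁻¹ * (v * y * v⁻¹), mul_mem (inv_mem y.2) (h.conj_mem hvN y.2)⟩
  have hf : Function.Injective f := by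
    intro a b e
    have e' : (a : G)⁻¹ * (v * a * v⁻¹) = (b : G)⁻¹ * (v * b * v⁻¹) := congrArg Subtype.val e
    have hc : v * ((b : G) * (a : G)⁻¹) * v⁻¹ = (b : G) * (a : G)⁻¹ := by
      calc v * ((b : G) * (a : G)⁻¹) * v⁻¹ = (b : G) * ((b : G)⁻¹ * (v * b * v⁻¹)) * (v * a * v⁻¹)⁻¹ := by
            group
        _ = (b : G) * ((a : G)⁻¹ * (v * a * v⁻¹)) * (v * a * v⁻¹)⁻¹ := by rw [e']
        _ = _ := by group
    exact Subtype.ext (mul_inv_eq_one.1 (h.eq_one_of_commute hv (mul_mem b.2 (inv_mem a.2))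
      (mul_inv_eq_iff_eq_mul.1 hc))).symm
  obtain ⟨y, hy⟩ := Finite.surjective_of_injective hf ⟨x, hx⟩
  have e : (y : G)⁻¹ * (v * y * v⁻¹) = x := congrArg Subtype.val hy
  rw [← e, inv_eq hv]
  calc v * ((y : G)⁻¹ * (v * y * v)) * v = v * (y : G)⁻¹ * v * y * (v * v) := by group
    _ = v * (y : G)⁻¹ * v * y := by rw [mul_self hv, mul_one]
    _ = ((y : G)⁻¹ * (v⁻¹ * y * v⁻¹))⁻¹ := by group
    _ = _ := by rw [inv_eq hv]

theorem comm {a b : G} (ha : a ∈ M) (hb : b ∈ M) : Commute a b := by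
  have h1 := h.inverts h.hz h.hzN (mul_mem ha hb)
  rw [mul_inv_rev, show z * (a * b) * z⁻¹ = (z * a * z⁻¹) * (z * b * z⁻¹) by group,
    h.inverts h.hz h.hzN ha, h.inverts h.hz h.hzN hb] at h1
  have h2 := congrArg (·⁻¹) h1
  simp only [mul_inv_rev, inv_inv] at h2
  exact h2.symm

theorem eq_one_of_mem_cc {x : G} (hx : x ∈ M) (hxc : x ∈ cc M z) : x = 1 :=
  h.eq_one_of_commute h.hz hx (Subgroup.mem_centralizer_singleton_iff.1 hxc.2).symm

theorem exists_decomp {g : G} (hg : g ∈ nn M) : ∃ m ∈ M, ∃ x ∈ cc M z, g = m * x := by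
  have e : ((M ⊔ cc M z : Subgroup G) : Set G) = (M : Set G) * (cc M z : Set G) :=
    Subgroup.coe_mul_of_right_le_normalizer_left M (cc M z) inf_le_left
  have hg' : g ∈ ((M ⊔ cc M z : Subgroup G) : Set G) := by rw [h.fac]; exact hg
  rw [e] at hg'
  obtain ⟨m, hm, x, hx, rfl⟩ := hg'
  exact ⟨m, hm, x, hx, rfl⟩

theorem decomp_unique {m m' x x' : G} (hm : m ∈ M) (hm' : m' ∈ M) (hx : x ∈ cc M z)
    (hx' : x' ∈ cc M z) (e : m * x = m' * x') : m = m' ∧ x = x' := by
  have h1 : m'⁻¹ * m = x' * x⁻¹ := by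
    calc m'⁻¹ * m = m'⁻¹ * (m * x) * x⁻¹ := by group
      _ = m'⁻¹ * (m' * x') * x⁻¹ := by rw [e]
      _ = _ := by group
  have h2 := h.eq_one_of_mem_cc (mul_mem (inv_mem hm') hm) (h1 ▸ mul_mem hx' (inv_mem hx))
  obtain rfl := inv_mul_eq_one.1 h2
  exact ⟨rfl, mul_left_cancel e⟩

theorem card_nn : Nat.card (nn M) = Nat.card M * Nat.card (cc M z) := by
  rw [← Nat.card_prod]
  refine (Nat.card_congr (Equiv.ofBijective (fun p : M × cc M z =>
    (⟨(p.1 : G) * p.2, mul_mem (Subgroup.le_normalizer p.1.2) p.2.2.1⟩ : nn M)) ⟨?_, ?_⟩)).symm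
  · intro p q e
    obtain ⟨e1, e2⟩ := h.decomp_unique p.1.2 q.1.2 p.2.2 q.2.2 (congrArg Subtype.val e)
    exact Prod.ext (Subtype.ext e1) (Subtype.ext e2)
  · intro g
    obtain ⟨m, hm, x, hx, e⟩ := h.exists_decomp g.2
    exact ⟨(⟨m, hm⟩, ⟨x, hx⟩), Subtype.ext e.symm⟩

theorem z_mem_cc : z ∈ cc M z :=
  ⟨h.hzN, Subgroup.mem_centralizer_singleton_iff.2 rfl⟩

/-- `z` is the only involution of its centraliser in the normaliser. -/
theorem eq_z {v : G} (hv : orderOf v = 2) (hvc : v ∈ cc M z) : v = z := by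
  by_contra hne
  have hcz : Commute v z := Subgroup.mem_centralizer_singleton_iff.1 hvc.2
  have hy : orderOf (v * z) = 2 := by
    refine orderOf_eq_two ?_ fun e => hne ?_
    · rw [hcz.symm.mul_mul_mul_comm, mul_self hv, mul_self h.hz, one_mul]
    · rw [← inv_eq h.hz]; exact eq_inv_of_mul_eq_one_left e
  obtain ⟨x, hx, hx1⟩ := M.bot_or_exists_ne_one.resolve_left h.ne
  refine hx1 (h.eq_one_of_commute hy hx (mul_inv_eq_iff_eq_mul.1 ?_))
  rw [show v * z * x * (v * z)⁻¹ = v * (z * x * z⁻¹) * v⁻¹ by group, h.inverts h.hz h.hzN hx,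
    h.inverts hv hvc.1 (inv_mem hx), inv_inv]

/-- The involutions of the normaliser are the `m z`. -/
theorem exists_mul_z {v : G} (hv : orderOf v = 2) (hvN : v ∈ nn M) : ∃ m ∈ M, v = m * z := by
  obtain ⟨m, hm, x, hx, rfl⟩ := h.exists_decomp hvN
  refine ⟨m, hm, ?_⟩
  congr 1
  have h1 := h.inverts hv hvN hm
  have h2 : x * m * x⁻¹ = m⁻¹ := by
    calc x * m * x⁻¹ = m⁻¹ * (m * x * m * (m * x)⁻¹) * m := by group
      _ = _ := by rw [h1]; group
  have hxx : x * x = 1 := by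
    calc x * x = m * (x * m * x⁻¹) * x * x := by rw [h2]; group
      _ = m * x * (m * x) := by group
      _ = 1 := mul_self hv
  refine h.eq_z (orderOf_eq_two hxx fun e => ?_) hx
  rw [e, mul_one] at hv
  exact ne_one hv (h.eq_one_of_commute hv hm (Commute.refl _))

theorem orderOf_mul_z {m : G} (hm : m ∈ M) : orderOf (m * z) = 2 := by
  refine orderOf_eq_two ?_ fun e => ?_
  · calc m * z * (m * z) = m * (z * m * z⁻¹) * (z * z) := by group
      _ = 1 := by rw [h.inverts h.hz h.hzN hm, mul_self h.hz]; group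
  · have hzM : z ∈ M := by rw [← inv_eq_of_mul_eq_one_right e]; exact inv_mem hm
    exact ne_one h.hz (h.eq_one_of_commute h.hz hzM (Commute.refl _))

theorem mul_z_mem {m : G} (hm : m ∈ M) : m * z ∈ nn M := mul_mem (Subgroup.le_normalizer hm) h.hzN

/-- All involutions of the normaliser are conjugate to `z` under `M`. -/
theorem exists_conj_z {v : G} (hv : orderOf v = 2) (hvN : v ∈ nn M) :
    ∃ m ∈ M, v = m * z * m⁻¹ := by
  obtain ⟨w, hw, rfl⟩ := h.exists_mul_z hv hvN
  obtain ⟨r, hr⟩ := h.odd_order hw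
  refine ⟨w ^ (r + 1), pow_mem hw _, ?_⟩
  calc w * z = w ^ ((r + 1) + (r + 1)) * z := by
        rw [show r + 1 + (r + 1) = (2 * r + 1) + 1 by ring, pow_succ, ← hr, pow_orderOf_eq_one, one_mul]
    _ = w ^ (r + 1) * (z * (w ^ (r + 1))⁻¹ * z⁻¹) * z := by
        rw [h.inverts h.hz h.hzN (inv_mem (pow_mem hw _)), inv_inv, pow_add]
    _ = _ := by group

/-- An element inverted by a different involution of the normaliser lies in `M`. -/
theorem mem_of_inverted {v y : G} (hv : orderOf v = 2) (hvN : v ∈ nn M) (hy : y ∈ nn M) (hne : y ≠ v)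
    (hinv : v * y * v⁻¹ = y⁻¹) : y ∈ M := by
  have hvy : orderOf (v * y) = 2 := by
    refine orderOf_eq_two ?_ fun e => hne ?_
    · calc v * y * (v * y) = v * y * v⁻¹ * (v * v) * y := by group
        _ = 1 := by rw [hinv, mul_self hv, mul_one, inv_mul_cancel]
    · rw [← inv_eq hv]; exact eq_inv_of_mul_eq_one_right e
  obtain ⟨m, hm, rfl⟩ := h.exists_mul_z hv hvN
  obtain ⟨m', hm', e⟩ := h.exists_mul_z hvy (mul_mem hvN hy)
  have e2 : y = z⁻¹ * (m⁻¹ * m') * z⁻¹⁻¹ := by
    calc y = (m * z)⁻¹ * (m * z * y) := by group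
      _ = (m * z)⁻¹ * (m' * z) := by rw [e]
      _ = _ := by group
  rw [e2]
  exact h.conj_mem (inv_mem h.hzN) (mul_mem (inv_mem hm) hm')

/-- Involutions outside the normaliser lie in different cosets. -/
theorem eq_of_coset {u v : G} (hu : orderOf u = 2) (hv : orderOf v = 2) (huN : u ∉ nn M)
    (huv : u⁻¹ * v ∈ M) : u = v := by
  by_contra hne
  refine huN (h.mem_nn_of_conj_mem huv (fun e => hne (inv_mul_eq_one.1 e)) ?_)
  rw [show u * (u⁻¹ * v) * u⁻¹ = v * u⁻¹ by group, ← inv_eq hv, ← mul_inv_rev, inv_mem_iff]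
  rwa [inv_eq hu] at huv

/-- A coset outside the normaliser is fixed by no element of `M`. -/
theorem free_coset {g m : G} (hg : g ∉ nn M) (hm : m ∈ M) (hmg : g⁻¹ * m * g ∈ M) : m = 1 := by
  by_contra hm1
  exact hg (by simpa using inv_mem (h.mem_nn_of_conj_mem hm hm1 (g := g⁻¹) (by rwa [inv_inv])))

theorem mem_nn_iff_of_coset {g g' : G} (e : g⁻¹ * g' ∈ M) : g' ∈ nn M ↔ g ∈ nn M := by
  conv_lhs => rw [show g' = g * (g⁻¹ * g') by group]
  exact Subgroup.mul_mem_cancel_right _ (Subgroup.le_normalizer e)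

theorem card_inside : Nat.card {x : G ⧸ M // x.out ∈ nn M} = Nat.card (cc M z) := by
  refine (Nat.card_congr (Equiv.ofBijective (fun y : cc M z =>
    (⟨((y : G) : G ⧸ M), (h.mem_nn_iff_of_coset (g := (y : G)) ?_).2 y.2.1⟩ :
      {x : G ⧸ M // x.out ∈ nn M})) ⟨?_, ?_⟩)).symm
  · exact QuotientGroup.eq.1 (QuotientGroup.out_eq' _).symm
  · intro a b e
    have e' : ((a : G) : G ⧸ M) = (b : G) := congrArg Subtype.val e
    exact Subtype.ext (inv_mul_eq_one.1 (h.eq_one_of_mem_cc (QuotientGroup.eq.1 e')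
      (mul_mem (inv_mem a.2) b.2)))
  · rintro ⟨x, hx⟩
    obtain ⟨m, hm, y, hy, e⟩ := h.exists_decomp hx
    refine ⟨⟨y, hy⟩, Subtype.ext ?_⟩
    show ((y : G) : G ⧸ M) = x
    rw [← QuotientGroup.out_eq' x, QuotientGroup.eq, e, ← mul_assoc]
    simpa using h.conj_mem (inv_mem hy.1) hm

theorem card_involutions_inside : Nat.card {v : G // orderOf v = 2 ∧ v ∈ nn M} = Nat.card M := by
  refine (Nat.card_congr (Equiv.ofBijective (fun m : M =>
    (⟨(m : G) * z, h.orderOf_mul_z m.2, h.mul_z_mem m.2⟩ : {v : G // orderOf v = 2 ∧ v ∈ nn M}))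
    ⟨fun a b e => Subtype.ext (mul_right_cancel (congrArg Subtype.val e)), ?_⟩)).symm
  rintro ⟨v, hv, hvN⟩
  obtain ⟨m, hm, rfl⟩ := h.exists_mul_z hv hvN
  exact ⟨⟨m, hm⟩, rfl⟩

theorem card_involutions : Nat.card {v : G // orderOf v = 2} =
    Nat.card M + Nat.card {v : G // orderOf v = 2 ∧ v ∉ nn M} := by
  classical
  rw [← h.card_involutions_inside, ← Nat.card_sum]
  refine Nat.card_congr ((Equiv.sumCompl (fun v : {v : G // orderOf v = 2} => (v : G) ∈ nn M)).symm.trans ?_)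
  exact Equiv.sumCongr (Equiv.subtypeSubtypeEquivSubtypeInter (fun v : G => orderOf v = 2) fun v => v ∈ nn M)
    (Equiv.subtypeSubtypeEquivSubtypeInter (fun v : G => orderOf v = 2) fun v => v ∉ nn M)

theorem card_cosets : M.index = Nat.card (cc M z) + Nat.card {x : G ⧸ M // x.out ∉ nn M} := by
  classical
  rw [← h.card_inside, ← Nat.card_sum, Subgroup.index_eq_card]
  exact Nat.card_congr (Equiv.sumCompl (fun x : G ⧸ M => x.out ∈ nn M)).symm

/-- The coset of an involution outside the normaliser. -/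
def toCoset (_ : Hyp M z) (u : G) : G ⧸ M := (u : G ⧸ M)

theorem toCoset_out {u : G} (hu : u ∉ nn M) : ((u : G ⧸ M)).out ∉ nn M := fun e =>
  hu ((h.mem_nn_iff_of_coset (QuotientGroup.eq.1 (QuotientGroup.out_eq' (u : G ⧸ M)))).2 e)

/-- Every coset outside the normaliser holds an involution. -/
theorem exists_involution {g : G} (hg : g ∉ nn M) : ∃ u : G, orderOf u = 2 ∧ g⁻¹ * u ∈ M := by
  by_contra hno
  push Not at hno
  let F : M ⊕ {v : G // orderOf v = 2 ∧ v ∉ nn M} → {x : G ⧸ M // x.out ∉ nn M} :=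
    Sum.elim (fun m => ⟨(((m : G) * g : G) : G ⧸ M), h.toCoset_out fun e =>
        hg ((Subgroup.mul_mem_cancel_left _ (Subgroup.le_normalizer m.2)).1 e)⟩)
      (fun u => ⟨((u : G) : G ⧸ M), h.toCoset_out u.2.2⟩)
  have hF : Function.Injective F := by
    rintro (a | a) (b | b) e <;> have e' := QuotientGroup.eq.1 (congrArg Subtype.val e)
    · refine congrArg Sum.inl (Subtype.ext (inv_mul_eq_one.1 (h.free_coset hg (mul_mem (inv_mem a.2) b.2) ?_)))
      simpa [mul_assoc] using e'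
    · exfalso
      refine hno ((a : G)⁻¹ * b * (a : G)) ?_ ?_
      · rw [show (a : G)⁻¹ * b * a = (a : G)⁻¹ * b * ((a : G)⁻¹)⁻¹ by group, orderOf_conj]
        exact b.2.1
      · rw [show g⁻¹ * ((a : G)⁻¹ * b * a) = ((a : G) * g)⁻¹ * b * a by group]
        exact mul_mem e' a.2
    · exfalso
      refine hno ((b : G)⁻¹ * a * (b : G)) ?_ ?_
      · rw [show (b : G)⁻¹ * a * b = (b : G)⁻¹ * a * ((b : G)⁻¹)⁻¹ by group, orderOf_conj]
        exact a.2.1
      · rw [show g⁻¹ * ((b : G)⁻¹ * a * b) = ((a : G)⁻¹ * ((b : G) * g))⁻¹ * b by group]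
        exact mul_mem (inv_mem e') b.2
    · exact congrArg Sum.inr (Subtype.ext (h.eq_of_coset a.2.1 b.2.1 a.2.2 e'))
  have h1 := Nat.card_le_card_of_injective F hF
  rw [Nat.card_sum] at h1
  have h2 := h.many
  rw [h.card_involutions, h.card_cosets] at h2
  omega

/-- The involutions outside the normaliser correspond to the cosets outside. -/
theorem card_outside : Nat.card {v : G // orderOf v = 2 ∧ v ∉ nn M} =
    Nat.card {x : G ⧸ M // x.out ∉ nn M} := by
  refine Nat.card_congr (Equiv.ofBijective (fun u => ⟨((u : G) : G ⧸ M), h.toCoset_out u.2.2⟩) ⟨?_, ?_⟩)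
  · exact fun a b e => Subtype.ext (h.eq_of_coset a.2.1 b.2.1 a.2.2 (QuotientGroup.eq.1 (congrArg Subtype.val e)))
  · rintro ⟨x, hx⟩
    obtain ⟨u, hu, hxu⟩ := h.exists_involution hx
    refine ⟨⟨u, hu, fun e => hx ((h.mem_nn_iff_of_coset hxu).1 e)⟩, Subtype.ext ?_⟩
    show (u : G ⧸ M) = x
    rw [← QuotientGroup.out_eq' x]
    exact (QuotientGroup.eq.2 hxu).symm

theorem card_lt : Nat.card (cc M z) < Nat.card M := by
  have h2 := h.many
  rw [h.card_involutions, h.card_cosets, h.card_outside] at h2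
  omega

end Hyp

end CfsgLib.Characterizations.TICount
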