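import Cfsg.Agent.Lib.Characterizations.TICount.Points

/-!
# The counts

With `r + 1` points fixed by `z` there are `1 + r |M|` points, `C(z)` has order `(r + 1) c` and is the
set of involutions inverting `C` outside `C`; hence `r = 1` or `c = 2`, and the class of `z` bounds `|M|`.
-/

set_option autoImplicit false
set_option linter.unusedSectionVars false

open Subgroup MulAction

namespace CfsgLib.Characterizations.TICount

open CfsgLib.Involution.Dihedral

variable {G : Type*} [Group G]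

/-- The number of further points fixed by `z`. -/
noncomputable abbrev rr (M : Subgroup G) (z : G) : ℕ :=
  Nat.card {p : G ⧸ nn M // z • p = p ∧ p ≠ base M}

namespace Hyp

variable [Finite G] {M : Subgroup G} {z : G} (h : Hyp M z)
include h

theorem card_others : Nat.card {p : G ⧸ nn M // p ≠ base M} = Nat.card M * rr M z := by
  rw [← Nat.card_prod]
  refine (Nat.card_congr (Equiv.ofBijective
    (fun a : M × {p : G ⧸ nn M // z • p = p ∧ p ≠ base M} =>
      (⟨(a.1 : G) • (a.2 : G ⧸ nn M), fun e => a.2.2.2 (by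
        rw [← inv_smul_smul (a.1 : G) (a.2 : G ⧸ nn M), e,
          smul_base_eq.2 (inv_mem (Subgroup.le_normalizer a.1.2))])⟩ : {p : G ⧸ nn M // p ≠ base M})) ⟨?_, ?_⟩)).symm
  · rintro ⟨a, q⟩ ⟨b, q'⟩ e
    have e' : (a : G) • (q : G ⧸ nn M) = (b : G) • (q' : G ⧸ nn M) := congrArg Subtype.val e
    set m := (b : G)⁻¹ * a with hm
    have hmM : m ∈ M := mul_mem (inv_mem b.2) a.2
    have hmq : m • (q : G ⧸ nn M) = q' := by rw [hm, mul_smul, e', inv_smul_smul]
    have h1 : m⁻¹ * z * m ∈ cc M z := (h.fix_iff q.2.2 q.2.1).1 ⟨smul_base_eq.2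
      (mul_mem (mul_mem (inv_mem (Subgroup.le_normalizer hmM)) h.hzN) (Subgroup.le_normalizer hmM)),
      by rw [mul_smul, mul_smul, hmq, q'.2.1, inv_smul_eq_iff, hmq]⟩
    have h2 := h.eq_z (by rw [show m⁻¹ * z * m = m⁻¹ * z * (m⁻¹)⁻¹ by group, orderOf_conj]; exact h.hz) h1
    have h3 : m = 1 := h.eq_one_of_commute h.hz hmM (show z * m = m * z by
      calc z * m = m * (m⁻¹ * z * m) := by group
        _ = m * z := by rw [h2])
    obtain rfl : b = a := Subtype.ext (inv_mul_eq_one.1 h3)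
    exact Prod.ext rfl (Subtype.ext (smul_left_cancel _ e'))
  · rintro ⟨p, hp⟩
    obtain ⟨u, hu, hup⟩ := h.exists_swap hp
    obtain ⟨v, hv, hvo, hvp, -⟩ := h.exists_fixing hp hu hup
    obtain ⟨m, hm, rfl⟩ := h.exists_conj_z hv (smul_base_eq.1 hvo)
    refine ⟨(⟨m, hm⟩, ⟨m⁻¹ • p, ?_, fun e => hp ?_⟩), Subtype.ext (smul_inv_smul m p)⟩
    · rw [eq_inv_smul_iff, smul_smul, smul_smul]
      exact hvp
    · rw [inv_smul_eq_iff.1 e, smul_base_eq.2 (Subgroup.le_normalizer hm)]

theorem card_points : Nat.card (G ⧸ nn M) = Nat.card M * rr M z + 1 := by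
  classical
  letI := Fintype.ofFinite (G ⧸ nn M)
  have h1 : 0 < Fintype.card (G ⧸ nn M) := Fintype.card_pos
  rw [← h.card_others, Nat.card_eq_fintype_card, Nat.card_eq_fintype_card, Fintype.card_subtype_compl,
    Fintype.card_subtype_eq]
  omega

theorem card_group : Nat.card G =
    (Nat.card M * rr M z + 1) * (Nat.card M * Nat.card (cc M z)) := by
  rw [← h.card_nn, ← h.card_points, ← Subgroup.card_eq_card_quotient_mul_card_subgroup]

theorem index_eq : M.index = (Nat.card M * rr M z + 1) * Nat.card (cc M z) := by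
  refine Nat.eq_of_mul_eq_mul_left (Nat.card_pos : 0 < Nat.card M) ?_
  rw [M.card_mul_index, h.card_group]
  ring

theorem card_involutions_eq : Nat.card {v : G // orderOf v = 2} =
    Nat.card M * (rr M z * Nat.card (cc M z) + 1) := by
  have h1 := h.card_cosets
  rw [h.index_eq] at h1
  rw [h.card_involutions, h.card_outside]
  have h2 : (Nat.card M * rr M z + 1) * Nat.card (cc M z) =
      Nat.card M * (rr M z * Nat.card (cc M z)) + Nat.card (cc M z) := by ring
  rw [Nat.mul_add, Nat.mul_one]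
  omega

theorem one_le_rr : 1 ≤ rr M z := by
  obtain ⟨q, hq, hzq⟩ := h.exists_fixed
  haveI : Nonempty {p : G ⧸ nn M // z • p = p ∧ p ≠ base M} := ⟨⟨q, hzq, hq⟩⟩
  exact Nat.card_pos

theorem commute_swap {q : G ⧸ nn M} (hq : q ≠ base M) (hzq : z • q = q) {u : G} (hu : orderOf u = 2)
    (huq : u • base M = q) : Commute u z := by
  have h1 := h.inverts_cc hq hzq hu huq h.z_mem_cc
  rw [inv_eq h.hz] at h1
  exact mul_inv_eq_iff_eq_mul.1 h1

theorem smul_fixed {g : G} (hg : Commute g z) {p : G ⧸ nn M} (hp : z • p = p) : z • g • p = g • p := by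
  rw [smul_smul, ← hg.eq, mul_smul, hp]

theorem card_cent : Nat.card (Subgroup.centralizer ({z} : Set G)) = (rr M z + 1) * Nat.card (cc M z) := by
  set H := Subgroup.centralizer ({z} : Set G) with hH
  have horb : MulAction.orbit H (base M) = insert (base M) {p : G ⧸ nn M | z • p = p ∧ p ≠ base M} := by
    ext p
    simp only [Set.mem_insert_iff, Set.mem_ofPred_eq]
    constructor
    · rintro ⟨⟨g, hg⟩, rfl⟩
      refine or_iff_not_imp_left.2 fun e => ⟨?_, e⟩
      exact h.smul_fixed (Subgroup.mem_centralizer_singleton_iff.1 hg) (smul_base_eq.2 h.hzN)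
    · rintro (rfl | ⟨hzp, hp⟩)
      · exact MulAction.mem_orbit_self _
      · obtain ⟨u, hu, huq⟩ := h.exists_swap hp
        exact ⟨⟨u, Subgroup.mem_centralizer_singleton_iff.2 (h.commute_swap hp hzp hu huq).eq⟩, huq⟩
  have hst : Nat.card (MulAction.stabilizer H (base M)) = Nat.card (cc M z) := Nat.card_congr
    { toFun := fun g => ⟨(g : H), smul_base_eq.1 g.2, (g : H).2⟩
      invFun := fun g => ⟨⟨g, g.2.2⟩, smul_base_eq.2 g.2.1⟩
      left_inv := fun _ => rfl
      right_inv := fun _ => rfl }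
  rw [← (MulAction.stabilizer H (base M)).card_mul_index, MulAction.index_stabilizer, hst, horb,
    Set.ncard_insert_of_notMem (fun e => e.2 rfl) (Set.toFinite _), mul_comm]
  rfl

/-- Outside the two-point stabiliser `C(z)` consists of involutions inverting it. -/
theorem outside_cent {g : G} (hgz : Commute g z) (hg : g ∉ nn M) :
    orderOf g = 2 ∧ ∀ y ∈ cc M z, g * y * g⁻¹ = y⁻¹ := by
  have hq : g • base M ≠ base M := fun e => hg (smul_base_eq.1 e)
  have hzq := h.smul_fixed hgz (smul_base_eq.2 h.hzN : z • base M = base M)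
  obtain ⟨u, hu, huq⟩ := h.exists_swap hq
  have huz := h.commute_swap hq hzq hu huq
  have hd : u⁻¹ * g ∈ cc M z := ⟨smul_base_eq.1 (by rw [mul_smul, inv_smul_eq_iff, huq]),
    Subgroup.mem_centralizer_singleton_iff.2 (huz.inv_left.mul_left hgz).eq⟩
  have hg2 : orderOf g = 2 := by
    refine orderOf_eq_two ?_ fun e => hg (e ▸ one_mem _)
    have h1 := h.inverts_cc hq hzq hu huq hd
    have e : g = u * (u⁻¹ * g) := by group
    rw [e]
    calc u * (u⁻¹ * g) * (u * (u⁻¹ * g)) = u * (u⁻¹ * g) * u⁻¹ * (u * u) * (u⁻¹ * g) := by group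
      _ = 1 := by rw [h1, mul_self hu, mul_one, inv_mul_cancel]
  exact ⟨hg2, fun y hy => h.inverts_cc hq hzq hg2 rfl hy⟩

theorem two_le_cc : 2 ≤ Nat.card (cc M z) := by
  refine Nat.le_of_dvd Nat.card_pos ?_
  rw [← h.hz, ← Subgroup.orderOf_mk (H := cc M z) z h.z_mem_cc]
  exact orderOf_dvd_natCard _

theorem card_cc_eq_two (hr : 2 ≤ rr M z) : Nat.card (cc M z) = 2 := by
  classical
  obtain ⟨⟨q₁, hz₁, hq₁⟩⟩ : Nonempty {p : G ⧸ nn M // z • p = p ∧ p ≠ base M} :=
    (Nat.card_pos_iff.1 (show 0 < rr M z by omega)).1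
  obtain ⟨⟨q₂, hz₂, hq₂⟩, hne⟩ : ∃ b : {p : G ⧸ nn M // z • p = p ∧ p ≠ base M},
      b ≠ ⟨q₁, hz₁, hq₁⟩ := by
    haveI : Nontrivial {p : G ⧸ nn M // z • p = p ∧ p ≠ base M} :=
      Finite.one_lt_card_iff_nontrivial.1 hr
    exact exists_ne _
  obtain ⟨u₁, hu₁, hu₁q⟩ := h.exists_swap hq₁
  obtain ⟨u₂, hu₂, hu₂q⟩ := h.exists_swap hq₂
  have hg : u₁ * u₂ ∉ nn M := fun e => hne (Subtype.ext (by
    have h1 := smul_base_eq.2 e
    rw [mul_smul, hu₂q, ← eq_inv_smul_iff, inv_eq hu₁, hu₁q] at h1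
    exact h1))
  obtain ⟨-, hg2⟩ := h.outside_cent ((h.commute_swap hq₁ hz₁ hu₁ hu₁q).mul_left
    (h.commute_swap hq₂ hz₂ hu₂ hu₂q)) hg
  refine le_antisymm ?_ h.two_le_cc
  have hall : ∀ y : cc M z, (y : G) = 1 ∨ (y : G) = z := by
    intro y
    by_cases hy1 : (y : G) = 1
    · exact Or.inl hy1
    refine Or.inr (h.eq_z (orderOf_eq_two ?_ hy1) y.2)
    have h1 := hg2 y y.2
    rw [show u₁ * u₂ * (y : G) * (u₁ * u₂)⁻¹ = u₁ * (u₂ * y * u₂⁻¹) * u₁⁻¹ by group,
      h.inverts_cc hq₂ hz₂ hu₂ hu₂q y.2, h.inverts_cc hq₁ hz₁ hu₁ hu₁q (inv_mem y.2), inv_inv] at h1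
    exact eq_inv_iff_mul_eq_one.1 h1
  calc Nat.card (cc M z) ≤ Nat.card Bool := by
        refine Nat.card_le_card_of_injective (fun y => decide ((y : G) = 1)) fun a b e => Subtype.ext ?_
        have e' : ((a : G) = 1) ↔ ((b : G) = 1) := decide_eq_decide.1 e
        rcases hall a with ha | ha <;> rcases hall b with hb | hb <;> rw [ha, hb]
        · exact absurd (hb.symm.trans (e'.1 ha)) (ne_one h.hz)
        · exact absurd (ha.symm.trans (e'.2 hb)) (ne_one h.hz)
    _ = 2 := by simp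

/-- The class of `z`. -/
noncomputable def classMap (_ : Hyp M z) (x : G ⧸ Subgroup.centralizer ({z} : Set G)) :
    {v : G // orderOf v = 2} :=
  ⟨x.out * z * x.out⁻¹, by rw [orderOf_conj]; exact Hyp.hz ‹_›⟩

theorem classMap_injective : Function.Injective h.classMap := by
  intro a b e
  have e' : a.out * z * a.out⁻¹ = b.out * z * b.out⁻¹ := congrArg Subtype.val e
  rw [← QuotientGroup.out_eq' a, ← QuotientGroup.out_eq' b, QuotientGroup.eq,
    Subgroup.mem_centralizer_singleton_iff]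
  calc a.out⁻¹ * b.out * z = a.out⁻¹ * (b.out * z * b.out⁻¹) * b.out := by group
    _ = a.out⁻¹ * (a.out * z * a.out⁻¹) * b.out := by rw [e']
    _ = _ := by group

theorem index_cent_mul : (Subgroup.centralizer ({z} : Set G)).index * (rr M z + 1) =
    (Nat.card M * rr M z + 1) * Nat.card M := by
  refine Nat.eq_of_mul_eq_mul_right (Nat.card_pos : 0 < Nat.card (cc M z)) ?_
  rw [mul_assoc, ← h.card_cent, mul_comm, Subgroup.card_mul_index, h.card_group]
  ring

/-- The class of `z` bounds `|M|`. -/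
theorem class_le : Nat.card M * rr M z + 1 ≤ (rr M z + 1) * (rr M z * Nat.card (cc M z) + 1) := by
  have h1 : (Subgroup.centralizer ({z} : Set G)).index ≤ Nat.card M * (rr M z * Nat.card (cc M z) + 1) := by
    rw [← h.card_involutions_eq, Subgroup.index_eq_card]
    exact Nat.card_le_card_of_injective _ h.classMap_injective
  refine Nat.le_of_mul_le_mul_right ?_ (Nat.card_pos : 0 < Nat.card M)
  rw [← h.index_cent_mul]
  calc (Subgroup.centralizer ({z} : Set G)).index * (rr M z + 1)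
      ≤ Nat.card M * (rr M z * Nat.card (cc M z) + 1) * (rr M z + 1) := Nat.mul_le_mul_right _ h1
    _ = _ := by ring

theorem isConj_of_eq
    (he : Nat.card M * rr M z + 1 = (rr M z + 1) * (rr M z * Nat.card (cc M z) + 1))
    {v : G} (hv : orderOf v = 2) : IsConj z v := by
  have h1 : (Subgroup.centralizer ({z} : Set G)).index = Nat.card {v : G // orderOf v = 2} := by
    rw [h.card_involutions_eq]
    refine Nat.eq_of_mul_eq_mul_right (show 0 < rr M z + 1 by omega) ?_
    rw [h.index_cent_mul, he]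
    ring
  rw [Subgroup.index_eq_card] at h1
  obtain ⟨x, hx⟩ := ((Nat.bijective_iff_injective_and_card _).2 ⟨h.classMap_injective, h1⟩).2 ⟨v, hv⟩
  exact isConj_iff.2 ⟨x.out, congrArg Subtype.val hx⟩

theorem cc_dvd : Nat.card (cc M z) ∣ Nat.card M - 1 := by
  classical
  let T := {u : M // u ≠ 1}
  have hT : Nat.card T = Nat.card M - 1 := by
    letI := Fintype.ofFinite M
    rw [Nat.card_eq_fintype_card, Nat.card_eq_fintype_card, Fintype.card_subtype_compl,
      Fintype.card_subtype_eq]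
  letI : MulAction (cc M z) T :=
    { smul := fun y u => ⟨⟨(y : G) * (u.1 : G) * (y : G)⁻¹, h.conj_mem y.2.1 u.1.2⟩, fun e =>
        u.2 (Subtype.ext (conj_eq_one_iff.mp (congrArg Subtype.val e)))⟩
      one_smul := fun u => Subtype.ext (Subtype.ext (by
        show ((1 : cc M z) : G) * (u.1 : G) * ((1 : cc M z) : G)⁻¹ = u.1; simp))
      mul_smul := fun a b u => Subtype.ext (Subtype.ext (by
        show ((a * b : cc M z) : G) * (u.1 : G) * ((a * b : cc M z) : G)⁻¹ =
          (a : G) * ((b : G) * (u.1 : G) * (b : G)⁻¹) * (a : G)⁻¹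
        simp [mul_assoc])) }
  have hstab : ∀ u : T, stabilizer (cc M z) u = ⊥ := fun u => eq_bot_iff.mpr fun y hy => by
    rw [Subgroup.mem_bot]
    by_contra hy1
    exact u.2 (Subtype.ext (h.fpf y.2 (fun e => hy1 (Subtype.ext e)) u.1.2
      (mul_inv_eq_iff_eq_mul.1 (congrArg (fun w : T => (w.1 : G)) hy))))
  haveI : Finite (orbitRel.Quotient (cc M z) T) := Quotient.finite _
  letI := Fintype.ofFinite (orbitRel.Quotient (cc M z) T)
  rw [← hT, Nat.card_congr (selfEquivSigmaOrbits (cc M z) T), Nat.card_sigma]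
  refine Finset.dvd_sum fun q _ => dvd_of_eq ?_
  have h1 := Nat.card_congr (orbitProdStabilizerEquivGroup (cc M z) q.out)
  rw [Nat.card_prod, hstab, Subgroup.card_bot, mul_one] at h1
  exact h1.symm

/-- The two possibilities. -/
theorem cases : (rr M z = 1 ∧ (Nat.card (cc M z) + 1 = Nat.card M ∨ 2 * Nat.card (cc M z) + 1 = Nat.card M)) ∨
    (2 ≤ rr M z ∧ Nat.card (cc M z) = 2) := by
  rcases Nat.lt_or_ge (rr M z) 2 with hr | hr
  · refine Or.inl ⟨by have := h.one_le_rr; omega, ?_⟩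
    have hr1 : rr M z = 1 := by have := h.one_le_rr; omega
    have h1 := h.class_le
    rw [hr1] at h1
    obtain ⟨t, ht⟩ := h.cc_dvd
    have h2 := h.card_lt
    have h3 := h.two_le_cc
    have h4 := h.three_le
    have ht2 : t ≤ 2 := by
      by_contra hlt
      have := Nat.mul_le_mul_left (Nat.card (cc M z)) (show 3 ≤ t by omega)
      omega
    interval_cases t <;> omega
  · exact Or.inr ⟨hr, h.card_cc_eq_two hr⟩

end Hyp

end CfsgLib.Characterizations.TICount
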