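import Cfsg.Agent.Lib.Characterizations.TICount.Basic
import Cfsg.Agent.Lib.FrobRealize.FixedPointFree

/-!
# The action on the cosets of the normaliser

Every two-point stabiliser is conjugate to the centraliser of `z` in the normaliser, which is cyclic,
inverted by every involution interchanging the two points and fixed-point-free on `M`.
-/

set_option autoImplicit false
set_option linter.unusedSectionVars false

open Subgroup MulAction

namespace CfsgLib.Characterizations.TICount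

open CfsgLib.Involution.Dihedral

variable {G : Type*} [Group G]

/-- The base point. -/
abbrev base (M : Subgroup G) : G ⧸ nn M := ((1 : G) : G ⧸ nn M)

theorem smul_base (M : Subgroup G) (g : G) : g • base M = (g : G ⧸ nn M) := by
  show ((g * 1 : G) : G ⧸ nn M) = _
  rw [mul_one]

theorem smul_base_eq {M : Subgroup G} {g : G} : g • base M = base M ↔ g ∈ nn M := by
  rw [smul_base, QuotientGroup.eq, mul_one, inv_mem_iff]

theorem swap_back {M : Subgroup G} {u : G} {p q : G ⧸ nn M} (hu : orderOf u = 2) (h : u • p = q) :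
    u • q = p := by
  rw [← h, smul_smul, mul_self hu, one_smul]

namespace Hyp

variable [Finite G] {M : Subgroup G} {z : G} (h : Hyp M z)
include h

theorem exists_swap {q : G ⧸ nn M} (hq : q ≠ base M) : ∃ u : G, orderOf u = 2 ∧ u • base M = q := by
  induction q using QuotientGroup.induction_on with | H g => ?_
  have hg : g ∉ nn M := fun e => hq (by rw [← smul_base_eq.2 e, smul_base])
  obtain ⟨u, hu, hgu⟩ := h.exists_involution hg
  refine ⟨u, hu, ?_⟩
  rw [smul_base]
  exact (QuotientGroup.eq.2 (Subgroup.le_normalizer hgu)).symm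

theorem swap_not_mem {q : G ⧸ nn M} (hq : q ≠ base M) {u : G} (huq : u • base M = q) : u ∉ nn M :=
  fun e => hq (huq ▸ smul_base_eq.2 e)

theorem card_inverted {q : G ⧸ nn M} (hq : q ≠ base M) {u : G} (hu : orderOf u = 2)
    (huq : u • base M = q) :
    Nat.card {d : G // (d • base M = base M ∧ d • q = q) ∧ (u * d) * (u * d) = 1} = Nat.card (cc M z) := by
  have huN := h.swap_not_mem hq huq
  have key : ∀ y : cc M z, ∃ d : G, (y : G)⁻¹ * d ∈ M ∧
      (d • base M = base M ∧ d • q = q) ∧ (u * d) * (u * d) = 1 := by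
    intro y
    have hy : u * (y : G) ∉ nn M := fun e => huN ((Subgroup.mul_mem_cancel_right _ y.2.1).1 e)
    obtain ⟨v, hv, hyv⟩ := h.exists_involution hy
    have hdy : (y : G)⁻¹ * (u⁻¹ * v) ∈ M := by rwa [← mul_assoc, ← mul_inv_rev]
    have hd : u⁻¹ * v ∈ nn M := (h.mem_nn_iff_of_coset hdy).2 y.2.1
    have hvq : v • base M = q := by
      conv_lhs => rw [show v = u * (u⁻¹ * v) by group]
      rw [mul_smul, smul_base_eq.2 hd, huq]
    refine ⟨u⁻¹ * v, hdy, ⟨smul_base_eq.2 hd, ?_⟩, by rw [mul_inv_cancel_left]; exact mul_self hv⟩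
    rw [mul_smul, swap_back hv hvq, inv_eq hu, huq]
  choose f hf1 hf2 hf3 using key
  refine (Nat.card_congr (Equiv.ofBijective (fun y : cc M z =>
    (⟨f y, hf2 y, hf3 y⟩ : {d : G // (d • base M = base M ∧ d • q = q) ∧ (u * d) * (u * d) = 1}))
    ⟨?_, ?_⟩)).symm
  · intro a b e
    have e' : f a = f b := congrArg Subtype.val e
    have h1 : (a : G)⁻¹ * b ∈ M := by
      have := mul_mem (hf1 a) (inv_mem (hf1 b))
      rwa [e', show (a : G)⁻¹ * f b * ((b : G)⁻¹ * f b)⁻¹ = (a : G)⁻¹ * b by group] at this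
    exact Subtype.ext (inv_mul_eq_one.1 (h.eq_one_of_mem_cc h1 (mul_mem (inv_mem a.2) b.2)))
  · rintro ⟨d, ⟨hdo, hdq⟩, hd2⟩
    have hdN := smul_base_eq.1 hdo
    obtain ⟨m, hm, y, hy, e⟩ := h.exists_decomp hdN
    refine ⟨⟨y, hy⟩, Subtype.ext ?_⟩
    show f ⟨y, hy⟩ = d
    have hyd : y⁻¹ * d ∈ M := by
      rw [e, ← mul_assoc]
      simpa using h.conj_mem (inv_mem hy.1) hm
    have ho : ∀ d' : G, (d' • base M = base M ∧ d' • q = q) ∧ (u * d') * (u * d') = 1 →
        orderOf (u * d') = 2 := fun d' hd' => orderOf_eq_two hd'.2 fun e1 => huN (by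
          have h1 := inv_eq_of_mul_eq_one_left e1
          rw [← inv_inv u]
          exact inv_mem (inv_eq_of_mul_eq_one_right e1 ▸ smul_base_eq.1 hd'.1.1))
    have hu' := ho _ ⟨hf2 ⟨y, hy⟩, hf3 ⟨y, hy⟩⟩
    have hv' := ho d ⟨⟨hdo, hdq⟩, hd2⟩
    refine mul_left_cancel (h.eq_of_coset hu' hv'
      (fun e1 => huN ((Subgroup.mul_mem_cancel_right _ (smul_base_eq.1 (hf2 ⟨y, hy⟩).1)).1 e1)) ?_)
    rw [show (u * f ⟨y, hy⟩)⁻¹ * (u * d) = (y⁻¹ * f ⟨y, hy⟩)⁻¹ * (y⁻¹ * d) by group]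
    exact mul_mem (inv_mem (hf1 ⟨y, hy⟩)) hyd

/-- Some involution fixes both points and commutes with the exchanging involution. -/
theorem exists_fixing {q : G ⧸ nn M} (hq : q ≠ base M) {u : G} (hu : orderOf u = 2)
    (huq : u • base M = q) :
    ∃ v : G, orderOf v = 2 ∧ v • base M = base M ∧ v • q = q ∧ Commute u v := by
  classical
  set J := {d : G // (d • base M = base M ∧ d • q = q) ∧ (u * d) * (u * d) = 1} with hJ
  letI : Fintype J := Fintype.ofFinite J
  have hinv : ∀ d : G, (u * d) * (u * d) = 1 → (u * d⁻¹) * (u * d⁻¹) = 1 := by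
    intro d hd
    have h1 : u * d * u = d⁻¹ := eq_inv_of_mul_eq_one_left (by rw [mul_assoc]; exact hd)
    calc u * d⁻¹ * (u * d⁻¹) = (u * d * u)⁻¹ * d⁻¹ := by
          rw [mul_inv_rev, mul_inv_rev, inv_eq hu]; group
      _ = 1 := by rw [h1, inv_inv, mul_inv_cancel]
  let σ : Equiv.Perm J := Function.Involutive.toPerm
    (fun d : J => (⟨(d : G)⁻¹, ⟨by rw [inv_smul_eq_iff, d.2.1.1], by rw [inv_smul_eq_iff, d.2.1.2]⟩,
      hinv _ d.2.2⟩ : J)) (fun d => Subtype.ext (inv_inv _))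
  haveI : Fact (Nat.Prime 2) := ⟨Nat.prime_two⟩
  have hcard : 2 ∣ Fintype.card J := by
    rw [← Nat.card_eq_fintype_card, hJ, h.card_inverted hq hu huq, ← h.hz,
      ← Subgroup.orderOf_mk (H := cc M z) z h.z_mem_cc]
    exact orderOf_dvd_natCard _
  obtain ⟨b, hb, hb1⟩ := Equiv.Perm.exists_fixed_point_of_prime' (p := 2) (n := 1) hcard (σ := σ)
    (Equiv.ext fun d => Subtype.ext (inv_inv _))
    (a := (⟨1, ⟨one_smul _ _, one_smul _ _⟩, by rw [mul_one]; exact mul_self hu⟩ : J))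
    (Subtype.ext inv_one)
  have hb2 : (b : G)⁻¹ = b := congrArg Subtype.val hb
  refine ⟨b, orderOf_eq_two ?_ fun e => hb1 (Subtype.ext e), b.2.1.1, b.2.1.2, ?_⟩
  · exact mul_eq_one_iff_eq_inv.2 hb2.symm
  · have h1 : u * b * u = (b : G) := by
      conv_rhs => rw [← hb2]
      exact eq_inv_of_mul_eq_one_left (by rw [mul_assoc]; exact b.2.2)
    show u * b = b * u
    calc u * b = u * b * (u * u) := by rw [mul_self hu, mul_one]
      _ = u * b * u * u := by group
      _ = _ := by rw [h1]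

/-- `M` is semiregular away from the base point. -/
theorem semiregular {q : G ⧸ nn M} (hq : q ≠ base M) {m : G} (hm : m ∈ M) (hmq : m • q = q) : m = 1 := by
  obtain ⟨u, hu, huq⟩ := h.exists_swap hq
  obtain ⟨v, hv, hvo, hvq, huv⟩ := h.exists_fixing hq hu huq
  have hvN := smul_base_eq.1 hvo
  by_contra hm1
  have hmN : u * m * u⁻¹ ∈ nn M :=
    smul_base_eq.1 (by rw [inv_eq hu, mul_smul, mul_smul, huq, hmq, swap_back hu huq])
  have hmu : u * m * u⁻¹ ∈ M := by
    refine h.mem_of_inverted hv hvN hmN (fun e => ?_) ?_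
    · have h1 := h.odd_order hm
      rw [← orderOf_conj u m, e, hv] at h1
      exact Nat.not_odd_iff_even.2 even_two h1
    · calc v * (u * m * u⁻¹) * v⁻¹ = (v * u) * m * (v * u)⁻¹ := by group
        _ = (u * v) * m * (u * v)⁻¹ := by rw [huv.eq]
        _ = u * (v * m * v⁻¹) * u⁻¹ := by group
        _ = _ := by rw [h.inverts hv hvN hm]; group
  exact h.swap_not_mem hq huq (h.mem_nn_of_conj_mem hm hm1 hmu)

theorem card_pair {q : G ⧸ nn M} (hq : q ≠ base M) :
    Nat.card {d : G // d • base M = base M ∧ d • q = q} ≤ Nat.card (cc M z) := by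
  have key : ∀ d : {d : G // d • base M = base M ∧ d • q = q}, ∃ y : cc M z, (d : G) * (y : G)⁻¹ ∈ M := by
    intro d
    obtain ⟨m, hm, y, hy, e⟩ := h.exists_decomp (smul_base_eq.1 d.2.1)
    exact ⟨⟨y, hy⟩, by rw [e, mul_inv_cancel_right]; exact hm⟩
  choose f hf using key
  refine Nat.card_le_card_of_injective f fun a b e => Subtype.ext ?_
  have hab : (a : G) * (b : G)⁻¹ ∈ M := by
    have := mul_mem (hf a) (inv_mem (hf b))
    rwa [e, show (a : G) * (f b : G)⁻¹ * ((b : G) * (f b : G)⁻¹)⁻¹ = (a : G) * (b : G)⁻¹ by group] at this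
  refine mul_inv_eq_one.1 (h.semiregular hq hab ?_)
  rw [mul_smul, inv_smul_eq_iff.2 b.2.2.symm, a.2.2]

/-- An involution exchanging the base point with another inverts the two-point stabiliser. -/
theorem inverts_base {q : G ⧸ nn M} (hq : q ≠ base M) {u : G} (hu : orderOf u = 2)
    (huq : u • base M = q) {d : G} (hdo : d • base M = base M) (hdq : d • q = q) :
    u * d * u⁻¹ = d⁻¹ := by
  classical
  let ι : {d : G // (d • base M = base M ∧ d • q = q) ∧ (u * d) * (u * d) = 1} →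
      {d : G // d • base M = base M ∧ d • q = q} := fun d => ⟨d, d.2.1⟩
  have hι : Function.Injective ι := fun a b e => Subtype.ext (congrArg Subtype.val e :)
  obtain ⟨⟨d', hd'⟩, e⟩ := ((Nat.bijective_iff_injective_and_card ι).2 ⟨hι,
    le_antisymm (Nat.card_le_card_of_injective ι hι) (by rw [h.card_inverted hq hu huq]; exact h.card_pair hq)⟩).2
    ⟨d, hdo, hdq⟩
  obtain rfl : d' = d := congrArg Subtype.val e
  rw [inv_eq hu]
  exact eq_inv_of_mul_eq_one_left (by rw [mul_assoc]; exact hd'.2)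

theorem card_pair_eq {q : G ⧸ nn M} (hq : q ≠ base M) :
    Nat.card {d : G // d • base M = base M ∧ d • q = q} = Nat.card (cc M z) := by
  obtain ⟨u, hu, huq⟩ := h.exists_swap hq
  refine le_antisymm (h.card_pair hq) ?_
  rw [← h.card_inverted hq hu huq]
  exact Nat.card_le_card_of_injective (fun d => (⟨d, d.2.1⟩ : {d : G // d • base M = base M ∧ d • q = q}))
    fun a b e => Subtype.ext (congrArg Subtype.val e :)

/-- An involution exchanging two points inverts their common stabiliser. -/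
theorem inverts_pair {p q : G ⧸ nn M} (hpq : p ≠ q) {v : G} (hv : orderOf v = 2) (hvp : v • p = q)
    {y : G} (hyp : y • p = p) (hyq : y • q = q) : v * y * v⁻¹ = y⁻¹ := by
  obtain ⟨g, rfl⟩ : ∃ g : G, g • base M = p := MulAction.exists_smul_eq G _ _
  have h1 := h.inverts_base (q := g⁻¹ • q) (u := g⁻¹ * v * g) (d := g⁻¹ * y * g)
    (fun e => hpq (inv_smul_eq_iff.1 e).symm)
    (by rw [show g⁻¹ * v * g = g⁻¹ * v * (g⁻¹)⁻¹ by group, orderOf_conj]; exact hv)
    (by rw [mul_smul, mul_smul, hvp])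
    (by rw [mul_smul, mul_smul, hyp, inv_smul_smul])
    (by rw [mul_smul, mul_smul, smul_inv_smul, hyq])
  calc v * y * v⁻¹ = g * (g⁻¹ * v * g * (g⁻¹ * y * g) * (g⁻¹ * v * g)⁻¹) * g⁻¹ := by group
    _ = _ := by rw [h1]; group

/-- `z` fixes another point. -/
theorem exists_fixed : ∃ q : G ⧸ nn M, q ≠ base M ∧ z • q = q := by
  obtain ⟨g, hg⟩ : ∃ g : G, g ∉ nn M := by
    by_contra hno
    push Not at hno
    exact h.not_normal (Subgroup.normalizer_eq_top_iff.1 ((Subgroup.eq_top_iff' _).2 hno))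
  have hq : (g : G ⧸ nn M) ≠ base M := fun e => hg (smul_base_eq.1 (by rw [smul_base]; exact e))
  obtain ⟨u, hu, huq⟩ := h.exists_swap hq
  obtain ⟨v, hv, hvo, hvq, -⟩ := h.exists_fixing hq hu huq
  obtain ⟨m, hm, rfl⟩ := h.exists_conj_z hv (smul_base_eq.1 hvo)
  refine ⟨m⁻¹ • (g : G ⧸ nn M), fun e => hq ?_, ?_⟩
  · rw [inv_smul_eq_iff.1 e, smul_base_eq.2 (Subgroup.le_normalizer hm)]
  · rw [eq_inv_smul_iff, smul_smul, smul_smul]
    exact hvq

/-- The two-point stabiliser at a point fixed by `z`. -/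
theorem fix_iff {q : G ⧸ nn M} (hq : q ≠ base M) (hzq : z • q = q) {g : G} :
    g • base M = base M ∧ g • q = q ↔ g ∈ cc M z := by
  obtain ⟨u, hu, huq⟩ := h.exists_swap hq
  have hzo : z • base M = base M := smul_base_eq.2 h.hzN
  have hle : ∀ d : {d : G // d • base M = base M ∧ d • q = q}, (d : G) ∈ cc M z := by
    intro d
    refine ⟨smul_base_eq.1 d.2.1, Subgroup.mem_centralizer_singleton_iff.2 ?_⟩
    have h1 := h.inverts_base hq hu huq hzo hzq
    have h2 := h.inverts_base hq hu huq d.2.1 d.2.2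
    have h3 := h.inverts_base hq hu huq (d := (d : G) * z) (by rw [mul_smul, hzo, d.2.1])
      (by rw [mul_smul, hzq, d.2.2])
    rw [show u * ((d : G) * z) * u⁻¹ = (u * d * u⁻¹) * (u * z * u⁻¹) by group, h1, h2, ← mul_inv_rev,
      inv_inj] at h3
    exact h3.symm
  refine ⟨fun hg => hle ⟨g, hg⟩, fun hg => ?_⟩
  obtain ⟨d, hd⟩ := ((Nat.bijective_iff_injective_and_card
    (fun d : {d : G // d • base M = base M ∧ d • q = q} => (⟨d, hle d⟩ : cc M z))).2
    ⟨fun a b e => Subtype.ext (congrArg (fun x : cc M z => (x : G)) e), h.card_pair_eq hq⟩).2 ⟨g, hg⟩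
  obtain rfl : (d : G) = g := congrArg (fun x : cc M z => (x : G)) hd
  exact d.2

theorem inverts_cc {q : G ⧸ nn M} (hq : q ≠ base M) (hzq : z • q = q) {u : G} (hu : orderOf u = 2)
    (huq : u • base M = q) {y : G} (hy : y ∈ cc M z) : u * y * u⁻¹ = y⁻¹ :=
  h.inverts_base hq hu huq ((h.fix_iff hq hzq).2 hy).1 ((h.fix_iff hq hzq).2 hy).2

theorem cc_comm : IsMulCommutative ↥(cc M z) := by
  obtain ⟨q, hq, hzq⟩ := h.exists_fixed
  obtain ⟨u, hu, huq⟩ := h.exists_swap hq
  refine ⟨⟨fun a b => Subtype.ext ?_⟩⟩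
  have hab := h.inverts_cc hq hzq hu huq (mul_mem a.2 b.2)
  rw [show u * ((a : G) * b) * u⁻¹ = (u * a * u⁻¹) * (u * b * u⁻¹) by group,
    h.inverts_cc hq hzq hu huq a.2, h.inverts_cc hq hzq hu huq b.2, ← mul_inv_rev, inv_inj] at hab
  exact hab.symm

/-- The points fixed by a non-trivial element of the two-point stabiliser are fixed by `z`. -/
theorem z_fixes {y : G} (hy : y ∈ cc M z) (hy1 : y ≠ 1) {p : G ⧸ nn M} (hyp : y • p = p) :
    z • p = p := by
  by_contra hne
  have hc : Commute y z := Subgroup.mem_centralizer_singleton_iff.1 hy.2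
  have hyz : y • z • p = z • p := by rw [smul_smul, hc.eq, mul_smul, hyp]
  have h1 := h.inverts_pair (Ne.symm hne) h.hz rfl hyp hyz
  rw [← hc.eq, mul_inv_cancel_right] at h1
  have h2 : orderOf y = 2 := orderOf_eq_two (eq_inv_iff_mul_eq_one.1 h1) hy1
  exact hne (h.eq_z h2 hy ▸ hyp)

theorem fpf {y : G} (hy : y ∈ cc M z) (hy1 : y ≠ 1) {m : G} (hm : m ∈ M) (hc : Commute y m) : m = 1 := by
  obtain ⟨q, hq, hzq⟩ := h.exists_fixed
  have hyq := (h.fix_iff hq hzq).2 hy
  have h1 := h.z_fixes hy hy1 (p := m • q) (by rw [smul_smul, hc.eq, mul_smul, hyq.2])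
  have h2 : m⁻¹ * z * m ∈ cc M z := by
    refine (h.fix_iff hq hzq).1 ⟨smul_base_eq.2 ?_, ?_⟩
    · exact mul_mem (mul_mem (inv_mem (Subgroup.le_normalizer hm)) h.hzN) (Subgroup.le_normalizer hm)
    · rw [mul_smul, mul_smul, h1, inv_smul_smul]
  have h3 := h.eq_z (by rw [show m⁻¹ * z * m = m⁻¹ * z * (m⁻¹)⁻¹ by group, orderOf_conj]; exact h.hz) h2
  refine h.eq_one_of_commute h.hz hm ?_
  show z * m = m * z
  calc z * m = m * (m⁻¹ * z * m) := by group
    _ = m * z := by rw [h3]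

theorem cc_le_normalizer : cc M z ≤ nn M := inf_le_left

theorem cc_cyclic : IsCyclic ↥(cc M z) :=
  CfsgLib.FrobRealize.FPF.isCyclic_of_comm h.ne h.cc_le_normalizer
    (fun a ha ha1 => eq_bot_iff.2 fun m hm => Subgroup.mem_bot.2 (h.fpf ha ha1 hm.1
      (Subgroup.mem_centralizer_singleton_iff.1 hm.2).symm)) h.cc_comm

/-- Only the identity fixes every point. -/
theorem faithful : FaithfulSMul G (G ⧸ nn M) := by
  refine ⟨fun {a b} hab => ?_⟩
  set x := b⁻¹ * a with hx
  have hfix : ∀ p : G ⧸ nn M, x • p = p := fun p => by rw [hx, mul_smul, hab p, inv_smul_smul]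
  suffices h1 : x = 1 by exact (inv_mul_eq_one.1 h1).symm
  by_contra hx1
  obtain ⟨q, hq, hzq⟩ := h.exists_fixed
  obtain ⟨m, hm, hm1⟩ := M.bot_or_exists_ne_one.resolve_left h.ne
  have hxc : x ∈ cc M z := (h.fix_iff hq hzq).1 ⟨hfix _, hfix _⟩
  have hxc' : m⁻¹ * x * m ∈ cc M z := (h.fix_iff hq hzq).1
    ⟨by rw [mul_smul, mul_smul, hfix, inv_smul_smul], by rw [mul_smul, mul_smul, hfix, inv_smul_smul]⟩
  refine hm1 (h.fpf hxc hx1 hm ?_)
  have h2 : x⁻¹ * (m⁻¹ * x * m) = 1 := by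
    refine h.eq_one_of_mem_cc ?_ (mul_mem (inv_mem hxc) hxc')
    rw [show x⁻¹ * (m⁻¹ * x * m) = x⁻¹ * m⁻¹ * (x⁻¹)⁻¹ * m by group]
    exact mul_mem (h.conj_mem (inv_mem hxc.1) (inv_mem hm)) hm
  have h3 := inv_mul_eq_one.1 h2
  show x * m = m * x
  conv_rhs => rw [h3]
  group

end Hyp

end CfsgLib.Characterizations.TICount
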