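import Cfsg.Agent.Lib.Characterizations.TICount.Count
import Cfsg.Agent.Lib.Perm.SharpThreePGL
import Cfsg.Agent.Lib.Perm.ZGroup.PSL
import Cfsg.Prelude.Def_Transfer

/-!
# Two fixed points: `PGL(2, q)` and `PSL(2, q)`
-/

set_option autoImplicit false
set_option linter.unusedSectionVars false

open Subgroup MulAction

namespace CfsgLib.Characterizations.TICount

open CfsgLib.Involution.Dihedral

variable {G : Type*} [Group G]

namespace Hyp

variable [Finite G] {M : Subgroup G} {z : G} (h : Hyp M z)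
include h

section

variable (hr : rr M z = 1) {q : G ⧸ nn M} (hq : q ≠ base M) (hzq : z • q = q)
include hr hq hzq

theorem eq_fixed {p : G ⧸ nn M} (hp : z • p = p) : p = base M ∨ p = q := by
  refine or_iff_not_imp_left.2 fun hne => ?_
  haveI : Subsingleton {p : G ⧸ nn M // z • p = p ∧ p ≠ base M} :=
    Finite.card_le_one_iff_subsingleton.1 hr.le
  exact congrArg Subtype.val (Subsingleton.elim
    (⟨p, hp, hne⟩ : {p : G ⧸ nn M // z • p = p ∧ p ≠ base M}) ⟨q, hzq, hq⟩)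

theorem exists_translate {p : G ⧸ nn M} (hp : p ≠ base M) : ∃ m ∈ M, m • q = p := by
  obtain ⟨u, hu, hup⟩ := h.exists_swap hp
  obtain ⟨v, hv, hvo, hvp, -⟩ := h.exists_fixing hp hu hup
  obtain ⟨m, hm, rfl⟩ := h.exists_conj_z hv (smul_base_eq.1 hvo)
  refine ⟨m, hm, ?_⟩
  rcases h.eq_fixed hr hq hzq (p := m⁻¹ • p) (by rw [eq_inv_smul_iff, smul_smul, smul_smul]; exact hvp)
    with e | e
  · exact absurd ((inv_smul_eq_iff.1 e).trans (smul_base_eq.2 (Subgroup.le_normalizer hm))) hp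
  · exact (inv_smul_eq_iff.1 e).symm

theorem card_omega : Nat.card (G ⧸ nn M) = Nat.card M + 1 := by
  rw [h.card_points, hr, mul_one]

theorem free_three {g : G} {x y w : G ⧸ nn M} (hxy : x ≠ y) (hxw : x ≠ w) (hyw : y ≠ w)
    (hx : g • x = x) (hy : g • y = y) (hw : g • w = w) : g = 1 := by
  obtain ⟨a, ha⟩ := MulAction.exists_smul_eq G (base M) x
  obtain ⟨m, hm, hmq⟩ := h.exists_translate hr hq hzq (p := a⁻¹ • y) fun e =>
    hxy (by rw [← ha, ← e, smul_inv_smul])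
  set b := a * m with hb
  have hbo : b • base M = x := by rw [hb, mul_smul, smul_base_eq.2 (Subgroup.le_normalizer hm), ha]
  have hbq : b • q = y := by rw [hb, mul_smul, hmq, smul_inv_smul]
  have hg' : b⁻¹ * g * b ∈ cc M z := (h.fix_iff hq hzq).1
    ⟨by rw [mul_smul, mul_smul, hbo, hx, ← hbo, inv_smul_smul],
      by rw [mul_smul, mul_smul, hbq, hy, ← hbq, inv_smul_smul]⟩
  by_contra hg1
  have h1 : b⁻¹ * g * b ≠ 1 := fun e => hg1 (by
    calc g = b * (b⁻¹ * g * b) * b⁻¹ := by group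
      _ = 1 := by rw [e]; group)
  rcases h.eq_fixed hr hq hzq (h.z_fixes hg' h1 (p := b⁻¹ • w) (by rw [mul_smul, mul_smul, smul_inv_smul, hw]))
    with e | e
  · exact hxw (by rw [← hbo, ← e, smul_inv_smul])
  · exact hyw (by rw [← hbq, ← e, smul_inv_smul])

theorem exists_frame_map {x y : G ⧸ nn M} (hxy : x ≠ y) : ∃ g : G, g • base M = x ∧ g • q = y := by
  obtain ⟨a, ha⟩ := MulAction.exists_smul_eq G (base M) x
  obtain ⟨m, hm, hmq⟩ := h.exists_translate hr hq hzq (p := a⁻¹ • y) fun e =>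
    hxy (by rw [← ha, ← e, smul_inv_smul])
  exact ⟨a * m, by rw [mul_smul, smul_base_eq.2 (Subgroup.le_normalizer hm), ha],
    by rw [mul_smul, hmq, smul_inv_smul]⟩

theorem two_pretransitive : IsMultiplyPretransitive G (G ⧸ nn M) 2 := by
  rw [is_two_pretransitive_iff]
  intro a b c d hab hcd
  obtain ⟨g, hga, hgb⟩ := h.exists_frame_map hr hq hzq hab
  obtain ⟨k, hkc, hkd⟩ := h.exists_frame_map hr hq hzq hcd
  exact ⟨k * g⁻¹, by rw [mul_smul, inv_smul_eq_iff.2 hga.symm, hkc],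
    by rw [mul_smul, inv_smul_eq_iff.2 hgb.symm, hkd]⟩

theorem exists_third (hfull : Nat.card (cc M z) + 1 = Nat.card M) {p : G ⧸ nn M} (hpo : p ≠ base M)
    (hpq : p ≠ q) {p' : G ⧸ nn M} (hpo' : p' ≠ base M) (hpq' : p' ≠ q) : ∃ y ∈ cc M z, y • p = p' := by
  classical
  letI := Fintype.ofFinite (G ⧸ nn M)
  let f : cc M z → {x : G ⧸ nn M // x ≠ base M ∧ x ≠ q} := fun y => ⟨(y : G) • p,
    fun e => hpo (MulAction.injective (y : G) (e.trans (smul_base_eq.2 y.2.1).symm)),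
    fun e => hpq (MulAction.injective (y : G) (e.trans (((h.fix_iff hq hzq).2 y.2).2).symm))⟩
  have hf : Function.Injective f := by
    intro a b e
    have e' : (a : G) • p = (b : G) • p := congrArg Subtype.val e
    refine Subtype.ext (inv_mul_eq_one.1 ?_).symm
    refine h.free_three hr hq hzq hq.symm hpo.symm hpq.symm
      ((h.fix_iff hq hzq).2 (mul_mem (inv_mem b.2) a.2)).1
      ((h.fix_iff hq hzq).2 (mul_mem (inv_mem b.2) a.2)).2 ?_
    rw [mul_smul, e', inv_smul_smul]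
  have hcard : Nat.card {x : G ⧸ nn M // x ≠ base M ∧ x ≠ q} + 1 = Nat.card M := by
    have h1 := h.card_omega hr hq hzq
    have h2 : Nat.card {x : G ⧸ nn M // x ≠ base M ∧ x ≠ q} = Nat.card (G ⧸ nn M) - 2 := by
      rw [Nat.card_eq_fintype_card, Nat.card_eq_fintype_card, Fintype.card_subtype,
        show (Finset.univ.filter fun x : G ⧸ nn M => x ≠ base M ∧ x ≠ q) =
          ({base M, q} : Finset (G ⧸ nn M))ᶜ by ext x; simp,
        Finset.card_compl, Finset.card_pair hq.symm]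
    have := h.three_le
    omega
  obtain ⟨y, hy⟩ := ((Nat.bijective_iff_injective_and_card f).2 ⟨hf, by omega⟩).2 ⟨p', hpo', hpq'⟩
  exact ⟨y, y.2, congrArg Subtype.val hy⟩

theorem elementary_of_full (hfull : Nat.card (cc M z) + 1 = Nat.card M) :
    ∃ p : ℕ, p.Prime ∧ p ∣ Nat.card M ∧ Cfsg.IsElementaryAbelian p M := by
  classical
  have h3 := h.three_le
  obtain ⟨p, hp, hpk⟩ := Nat.exists_prime_and_dvd (show Nat.card M ≠ 1 by omega)
  haveI : Fact p.Prime := ⟨hp⟩
  obtain ⟨m₀, hm₀⟩ := exists_prime_orderOf_dvd_card' p hpk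
  have hm₀1 : m₀ ≠ 1 := fun e => hp.one_lt.ne' (hm₀.symm.trans (by rw [e, orderOf_one]))
  refine ⟨p, hp, hpk, ⟨⟨fun a b => Subtype.ext (h.comm a.2 b.2).eq⟩⟩, fun a ha => ?_⟩
  by_cases ha1 : a = 1
  · rw [ha1, one_pow]
  letI := Fintype.ofFinite M
  let f : cc M z → {u : M // u ≠ 1} := fun y =>
    ⟨⟨(y : G) * (m₀ : G) * (y : G)⁻¹, h.conj_mem y.2.1 m₀.2⟩, fun e =>
      hm₀1 (Subtype.ext (conj_eq_one_iff.1 (congrArg Subtype.val e)))⟩
  have hf : Function.Injective f := by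
    intro y y' e
    have e' : (y : G) * (m₀ : G) * (y : G)⁻¹ = (y' : G) * (m₀ : G) * (y' : G)⁻¹ :=
      congrArg (fun w : {u : M // u ≠ 1} => (w.1 : G)) e
    by_contra hne
    refine hm₀1 (Subtype.ext (h.fpf (mul_mem (inv_mem y'.2) y.2)
      (fun e1 => hne (Subtype.ext (inv_mul_eq_one.1 e1).symm)) m₀.2 ?_))
    show (y' : G)⁻¹ * y * m₀ = m₀ * ((y' : G)⁻¹ * y)
    calc (y' : G)⁻¹ * y * m₀ = (y' : G)⁻¹ * ((y : G) * m₀ * (y : G)⁻¹) * y := by group
      _ = (y' : G)⁻¹ * ((y' : G) * m₀ * (y' : G)⁻¹) * y := by rw [e']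
      _ = _ := by group
  have hc : Nat.card {u : M // u ≠ 1} + 1 = Nat.card M := by
    rw [Nat.card_eq_fintype_card, Nat.card_eq_fintype_card, Fintype.card_subtype_compl,
      Fintype.card_subtype_eq]
    rw [Nat.card_eq_fintype_card] at h3
    omega
  obtain ⟨y, hy⟩ := ((Nat.bijective_iff_injective_and_card f).2 ⟨hf, by omega⟩).2
    ⟨⟨a, ha⟩, fun e => ha1 (congrArg Subtype.val e)⟩
  have e' : (y : G) * (m₀ : G) * (y : G)⁻¹ = a := congrArg (fun w : {u : M // u ≠ 1} => (w.1 : G)) hy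
  rw [← e', _root_.conj_pow, ← Subgroup.coe_pow, ← hm₀, pow_orderOf_eq_one, Subgroup.coe_one, mul_one,
    mul_inv_cancel]

theorem exists_pgl (hfull : Nat.card (cc M z) + 1 = Nat.card M) :
    ∃ (F : Type) (_ : Field F) (_ : Fintype F) (p : ℕ) (_ : Fact p.Prime) (_ : CharP F p),
      Fintype.card F = Nat.card M ∧ Cfsg.IsElementaryAbelian p M ∧
        Nonempty (G ≃* (GL (Fin 2) F ⧸ Subgroup.center (GL (Fin 2) F))) := by
  classical
  letI := Fintype.ofFinite (G ⧸ nn M)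
  haveI := h.faithful
  let Φ : G →* Equiv.Perm (G ⧸ nn M) := MulAction.toPermHom G (G ⧸ nn M)
  have hΦ : Function.Injective Φ := MulAction.toPerm_injective
  let P : Subgroup (Equiv.Perm (G ⧸ nn M)) := Φ.range
  let ε : G ≃* P := MonoidHom.ofInjective hΦ
  have hε : ∀ (g : G) (x : G ⧸ nn M), ε g • x = g • x := fun _ _ => rfl
  have h3 : IsMultiplyPretransitive P (G ⧸ nn M) 3 := by
    have key : ∀ x : Fin 3 ↪ G ⧸ nn M, ∀ r : G ⧸ nn M, r ≠ base M → r ≠ q →
        ∃ g : G, g • base M = x 0 ∧ g • q = x 1 ∧ g • r = x 2 := by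
      intro x r hro hrq
      obtain ⟨g, hg0, hg1⟩ := h.exists_frame_map hr hq hzq (x := x 0) (y := x 1)
        (fun e => by simpa using x.injective e)
      obtain ⟨y, hy, hyr⟩ := h.exists_third hr hq hzq hfull hro hrq (p' := g⁻¹ • x 2)
        (fun e => by
          have h1 : x 2 = x 0 := by rw [← hg0, ← e, smul_inv_smul]
          simpa using x.injective h1)
        (fun e => by
          have h1 : x 2 = x 1 := by rw [← hg1, ← e, smul_inv_smul]
          simpa using x.injective h1)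
      obtain ⟨hyo, hyq⟩ := (h.fix_iff hq hzq).2 hy
      exact ⟨g * y, by rw [mul_smul, hyo, hg0], by rw [mul_smul, hyq, hg1],
        by rw [mul_smul, hyr, smul_inv_smul]⟩
    rw [isMultiplyPretransitive_iff]
    intro x x'
    obtain ⟨r, hr'⟩ : ∃ r : G ⧸ nn M, r ∉ ({base M, q} : Finset (G ⧸ nn M)) := by
      by_contra hall
      push Not at hall
      have h1 := Finset.card_le_card (fun x _ => hall x : Finset.univ ⊆ ({base M, q} : Finset (G ⧸ nn M)))
      rw [Finset.card_univ, ← Nat.card_eq_fintype_card, h.card_omega hr hq hzq,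
        Finset.card_pair hq.symm] at h1
      have := h.three_le
      omega
    simp only [Finset.mem_insert, Finset.mem_singleton, not_or] at hr'
    obtain ⟨g, g0, g1, g2⟩ := key x r hr'.1 hr'.2
    obtain ⟨g', g0', g1', g2'⟩ := key x' r hr'.1 hr'.2
    refine ⟨ε (g' * g⁻¹), Function.Embedding.ext fun i => ?_⟩
    show ε (g' * g⁻¹) • x i = x' i
    rw [hε, mul_smul]
    fin_cases i
    · exact (congrArg (g' • ·) (inv_smul_eq_iff.2 g0.symm)).trans g0'
    · exact (congrArg (g' • ·) (inv_smul_eq_iff.2 g1.symm)).trans g1'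
    · exact (congrArg (g' • ·) (inv_smul_eq_iff.2 g2.symm)).trans g2'
  have hsharp : ∀ x : Fin 3 ↪ G ⧸ nn M, stabilizer P x = ⊥ := by
    intro x
    refine eq_bot_iff.2 fun a ha => Subgroup.mem_bot.2 ?_
    obtain ⟨g, rfl⟩ := ε.surjective a
    have hx : ∀ i, g • x i = x i := fun i =>
      congrArg (fun f : Fin 3 ↪ G ⧸ nn M => f i) (mem_stabilizer_iff.1 ha)
    rw [h.free_three hr hq hzq (g := g) (fun e => by simpa using x.injective e)
      (fun e => by simpa using x.injective e) (fun e => by simpa using x.injective e) (hx 0) (hx 1) (hx 2),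
      map_one]
  have hk := h.odd_card
  have hcard : Fintype.card (G ⧸ nn M) = Nat.card M + 1 := by
    rw [← Nat.card_eq_fintype_card]; exact h.card_omega hr hq hzq
  obtain ⟨c, hco, hcq⟩ : ∃ c : G ⧸ nn M, c ≠ base M ∧ c ≠ q := by
    obtain ⟨m, hm, hm1⟩ := M.bot_or_exists_ne_one.resolve_left h.ne
    refine ⟨m • q, fun e => hq ?_, fun e => hm1 (h.semiregular hq hm e)⟩
    rw [← inv_smul_smul m q, e, smul_base_eq.2 (inv_mem (Subgroup.le_normalizer hm))]
  obtain ⟨s, hsa, hsb, hsc⟩ := CfsgLib.Perm.SharpThreeFrame.exists_swap P h3 hq.symm hco.symm hcq.symm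
  obtain ⟨D⟩ := CfsgLib.Perm.SharpThreeFrame.exists_frame (by rw [hcard]; exact hk.add_one)
    (by have := h.three_le; omega) P h3 hsharp hq.symm hco.symm hcq.symm s hsa hsb hsc
  haveI := h.cc_comm
  have hcomm : ∀ x y : D.H, x * y = y * x := by
    rintro ⟨x, hx⟩ ⟨y, hy⟩
    obtain ⟨a, rfl⟩ := ε.surjective x
    obtain ⟨b, rfl⟩ := ε.surjective y
    refine Subtype.ext ?_
    show ε a * ε b = ε b * ε a
    rw [← map_mul, ← map_mul, show a * b = b * a from congrArg Subtype.val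
      (mul_comm' (⟨a, (h.fix_iff hq hzq).1 ⟨hx.1, hx.2⟩⟩ : cc M z) ⟨b, (h.fix_iff hq hzq).1 ⟨hy.1, hy.2⟩⟩)]
  obtain ⟨F, hF, hFt, hFc, ⟨e⟩⟩ := D.nonempty_equiv_pgl_of_comm h3 hcomm
  obtain ⟨p, hp, hpk, hel⟩ := h.elementary_of_full hr hq hzq hfull
  have hDk : D.p ^ D.f = Nat.card M := by
    have := D.hcard
    omega
  haveI : Fact D.p.Prime := ⟨D.hp⟩
  have hpp : p = D.p := (Nat.prime_dvd_prime_iff_eq hp D.hp).1 (hp.dvd_of_dvd_pow (hDk ▸ hpk))
  exact ⟨F, hF, hFt, D.p, ⟨D.hp⟩, charP_of_card_eq_prime_pow (f := D.f) hFc, hFc.trans hDk, hpp ▸ hel,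
    ⟨ε.trans e⟩⟩

theorem no_regular_normal (hhalf : 2 * Nat.card (cc M z) + 1 = Nat.card M) (R : Subgroup G) [R.Normal]
    [IsPretransitive R (G ⧸ nn M)] : ∃ x : G ⧸ nn M, stabilizer R x ≠ ⊥ := by
  classical
  by_contra hall
  push Not at hall
  have hcard : Nat.card R = Nat.card M + 1 := by
    rw [← h.card_omega hr hq hzq]
    refine Nat.card_congr (Equiv.ofBijective (fun r : R => r • base M) ⟨fun a b e => ?_, fun x =>
      exists_smul_eq R (base M) x⟩)
    have h1 : b⁻¹ * a ∈ stabilizer R (base M) := by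
      rw [mem_stabilizer_iff, mul_smul, show a • base M = b • base M from e, inv_smul_smul]
    rw [hall, Subgroup.mem_bot] at h1
    exact (inv_mul_eq_one.1 h1).symm
  haveI : Fact (Nat.Prime 2) := ⟨Nat.prime_two⟩
  obtain ⟨⟨v, hvR⟩, hv⟩ := exists_prime_orderOf_dvd_card' 2
    (show 2 ∣ Nat.card R by rw [hcard]; exact even_iff_two_dvd.1 h.odd_card.add_one)
  rw [Subgroup.orderOf_mk] at hv
  have hvo : v • base M ≠ base M := fun e => by
    have h1 : (⟨v, hvR⟩ : R) ∈ stabilizer R (base M) := mem_stabilizer_iff.2 e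
    rw [hall, Subgroup.mem_bot] at h1
    exact ne_one hv (congrArg Subtype.val h1)
  letI := Fintype.ofFinite R
  let f : M → {r : R // r ≠ 1} := fun m => ⟨⟨(m : G) * v * (m : G)⁻¹, ‹R.Normal›.conj_mem v hvR m⟩,
    fun e => ne_one hv (conj_eq_one_iff.1 (congrArg Subtype.val e))⟩
  have hf : Function.Injective f := by
    intro a b e
    have e' : (a : G) * v * (a : G)⁻¹ = (b : G) * v * (b : G)⁻¹ :=
      congrArg (fun w : {r : R // r ≠ 1} => (w.1 : G)) e
    have e2 : ((a : G) * v * (a : G)⁻¹) • base M = ((b : G) * v * (b : G)⁻¹) • base M := by rw [e']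
    simp only [mul_smul, smul_base_eq.2 (inv_mem (Subgroup.le_normalizer a.2)),
      smul_base_eq.2 (inv_mem (Subgroup.le_normalizer b.2))] at e2
    refine (Subtype.ext (inv_mul_eq_one.1 (h.semiregular hvo (mul_mem (inv_mem b.2) a.2) ?_))).symm
    rw [mul_smul, e2, inv_smul_smul]
  have hc : Nat.card {r : R // r ≠ 1} = Nat.card M := by
    rw [Nat.card_eq_fintype_card, Fintype.card_subtype_compl, Fintype.card_subtype_eq,
      ← Nat.card_eq_fintype_card, hcard, Nat.add_sub_cancel]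
  have hsq : IsPGroup 2 R := by
    intro r
    refine ⟨1, ?_⟩
    rw [pow_one]
    by_cases hr1 : r = 1
    · rw [hr1, one_pow]
    obtain ⟨m, hm⟩ := ((Nat.bijective_iff_injective_and_card f).2 ⟨hf, hc.symm⟩).2 ⟨r, hr1⟩
    obtain rfl : (⟨(m : G) * v * (m : G)⁻¹, ‹R.Normal›.conj_mem v hvR m⟩ : R) = r := congrArg Subtype.val hm
    refine Subtype.ext ?_
    rw [Subgroup.coe_pow, ← hv, ← orderOf_conj (m : G) v, pow_orderOf_eq_one, Subgroup.coe_one]
  obtain ⟨a, ha⟩ := hsq.exists_card_eq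
  have hc2 : 2 ∣ Nat.card (cc M z) := by
    rw [← h.hz, ← Subgroup.orderOf_mk (H := cc M z) z h.z_mem_cc]
    exact orderOf_dvd_natCard _
  obtain ⟨t, ht⟩ := hc2
  have h2 := h.two_le_cc
  rcases a with _ | _ | a
  · rw [pow_zero] at ha; omega
  · rw [zero_add, pow_one] at ha; omega
  · rw [pow_succ', pow_succ'] at ha; omega

theorem exists_psl (hhalf : 2 * Nat.card (cc M z) + 1 = Nat.card M) :
    ∃ (F : Type) (_ : Field F) (_ : Fintype F) (p : ℕ) (_ : Fact p.Prime) (_ : CharP F p),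
      Fintype.card F = Nat.card M ∧ Cfsg.IsElementaryAbelian p M ∧
        (Fintype.card F % 4 = 1 ∧ Nonempty (G ≃* Matrix.ProjectiveSpecialLinearGroup (Fin 2) F)) := by
  classical
  letI := Fintype.ofFinite (G ⧸ nn M)
  have hZ : Cfsg.IsZassenhausGroup G (G ⧸ nn M) := by
    refine ⟨h.faithful, h.two_pretransitive hr hq hzq, ?_,
      ⟨z, ne_one h.hz, base M, q, hq.symm, smul_base_eq.2 h.hzN, hzq⟩,
      fun R hR hRt => ?_⟩
    · exact fun g a b c hab hbc hac ha hb hc => h.free_three hr hq hzq hab hac hbc ha hb hc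
    · haveI := hR
      haveI : IsPretransitive R (G ⧸ nn M) := ⟨hRt.exists_smul_eq⟩
      exact h.no_regular_normal hr hq hzq hhalf R
  have hle : M ≤ stabilizer G (base M) := fun m hm => smul_base_eq.2 (Subgroup.le_normalizer hm)
  have hnorm : (M.subgroupOf (stabilizer G (base M))).Normal :=
    ⟨fun x hx g => h.conj_mem (smul_base_eq.1 g.2) hx⟩
  have hreg : ∀ x y : G ⧸ nn M, x ≠ base M → y ≠ base M → ∃! u : M, (u : G) • x = y := by
    intro x y hx hy
    obtain ⟨m, hm, rfl⟩ := h.exists_translate hr hq hzq hx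
    obtain ⟨n, hn, rfl⟩ := h.exists_translate hr hq hzq hy
    refine ⟨⟨n * m⁻¹, mul_mem hn (inv_mem hm)⟩, show (n * m⁻¹) • m • q = n • q by rw [mul_smul, inv_smul_smul], fun u hu => Subtype.ext ?_⟩
    have h1 : n⁻¹ * ((u : G) * m) = 1 := h.semiregular hq (mul_mem (inv_mem hn) (mul_mem u.2 hm))
      (by rw [mul_smul, mul_smul]; exact inv_smul_eq_iff.2 hu)
    exact eq_mul_inv_of_mul_eq (inv_mul_eq_one.1 h1).symm
  let S : CfsgLib.Perm.ZGroup.Setup G (G ⧸ nn M) (base M) q := ⟨hZ, hq.symm, M, hle, hnorm, hreg⟩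
  have hH : Nat.card S.H = Nat.card (cc M z) := Nat.card_congr
    { toFun := fun g => ⟨g, (h.fix_iff hq hzq).1 g.2⟩
      invFun := fun g => ⟨g, (h.fix_iff hq hzq).2 g.2⟩
      left_inv := fun _ => rfl
      right_inv := fun _ => rfl }
  obtain ⟨p, f, K, hK, hKf, hp, hp2, hKc, hΩ, e⟩ := CfsgLib.Perm.ZGroup.psl_of_half S
    ⟨⟨fun a b => Subtype.ext (h.comm a.2 b.2).eq⟩⟩ (by rw [hH]; show _ = Nat.card M - 1; omega)
  have hMcard : Nat.card M = p ^ f := by
    rw [← Nat.card_eq_fintype_card, h.card_omega hr hq hzq] at hΩ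
    omega
  haveI : Fact p.Prime := ⟨hp⟩
  obtain ⟨-, p', f', hp', hexp, -⟩ := CfsgLib.Perm.ZGroup.kernel_elementary_abelian hZ hq.symm
    (by
      have h1 := h.card_omega hr hq hzq
      rw [Nat.card_eq_fintype_card] at h1
      show _ ≤ 2 * Nat.card S.H
      omega) M hle hnorm hreg
  have hpp : p' = p := by
    obtain ⟨m, hm, hm1⟩ := M.bot_or_exists_ne_one.resolve_left h.ne
    haveI : Fact p'.Prime := ⟨hp'⟩
    have hd : orderOf (⟨m, hm⟩ : M) ∣ Nat.card M := orderOf_dvd_natCard _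
    rw [Subgroup.orderOf_mk, orderOf_eq_prime (hexp m hm) hm1, hMcard] at hd
    exact (Nat.prime_dvd_prime_iff_eq hp' hp).1 (hp'.dvd_of_dvd_pow hd)
  have hc2 : 2 ∣ Nat.card (cc M z) := by
    rw [← h.hz, ← Subgroup.orderOf_mk (H := cc M z) z h.z_mem_cc]
    exact orderOf_dvd_natCard _
  exact ⟨K, hK, hKf, p, ⟨hp⟩, charP_of_card_eq_prime_pow (f := f) hKc, by rw [hKc, hMcard],
    ⟨⟨⟨fun a b => Subtype.ext (h.comm a.2 b.2).eq⟩⟩, fun a ha => hpp ▸ hexp a ha⟩,
    by rw [hKc, ← hMcard]; omega, e⟩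

end

end Hyp

end CfsgLib.Characterizations.TICount
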