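import Cfsg.Agent.Lib.Characterizations.TICount.Count
import Cfsg.Agent.Lib.Involution.RecognisePSL2
import Cfsg.Agent.Lib.Perm.SharpThreeOdd
import Cfsg.Agent.Lib.Solvable.Basic
import Cfsg.Agent.Lib.Solvable.KegelWielandt
import Cfsg.Agent.Lib.TwoGroups.CyclicMax
import Cfsg.Agent.Lib.FrobRealize.FixedPointFree
import Cfsg.Prelude.Def_Transfer

/-!
# More fixed points: `SL(2, 2^e)` and an elementary abelian normal subgroup of order `2^(2d)`
-/

set_option autoImplicit false
set_option linter.unusedSectionVars false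

open Subgroup MulAction
open scoped Pointwise

namespace CfsgLib.Characterizations.TICount

open CfsgLib.Involution.Dihedral

/-- A commutative subgroup of `SL(2, F)` in characteristic two of order `|F| + 1` is cyclic. -/
theorem isCyclic_of_card_succ {F : Type*} [Field F] [Fintype F] [CharP F 2]
    (A : Subgroup (Matrix.SpecialLinearGroup (Fin 2) F)) (hA : ∀ a ∈ A, ∀ b ∈ A, Commute a b)
    (hcard : Nat.card A = Fintype.card F + 1) (hodd : Odd (Nat.card A)) : IsCyclic A := by
  classical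
  have h1 : 1 < Nat.card A := by have := Fintype.card_pos (α := F); omega
  obtain ⟨m, hm, hm1⟩ := A.bot_or_exists_ne_one.resolve_left ((Subgroup.one_lt_card_iff_ne_bot A).1 h1)
  set C : Subalgebra F (Matrix (Fin 2) (Fin 2) F) :=
    Subalgebra.centralizer F {(m : Matrix (Fin 2) (Fin 2) F)} with hC
  have hdet : ∀ X ∈ C, X ≠ 0 → X.det ≠ 0 := by
    intro X hX hX0 hd
    obtain ⟨v, hv0, hv⟩ := Matrix.exists_mulVec_eq_zero_iff.2 hd
    have hXm : (m : Matrix (Fin 2) (Fin 2) F) * X = X * m := by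
      rw [hC, Subalgebra.mem_centralizer_iff] at hX
      exact hX _ rfl
    have hXmv : X.mulVec ((m : Matrix (Fin 2) (Fin 2) F).mulVec v) = 0 := by
      rw [Matrix.mulVec_mulVec, ← hXm, ← Matrix.mulVec_mulVec, hv, Matrix.mulVec_zero]
    -- the kernel is a line
    obtain ⟨a, ha⟩ : ∃ a : F, (m : Matrix (Fin 2) (Fin 2) F).mulVec v = a • v := by
      by_contra hne
      push Not at hne
      refine hX0 ?_
      set w := (m : Matrix (Fin 2) (Fin 2) F).mulVec v with hw
      have hli : LinearIndependent F ![v, w] :=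
        (LinearIndependent.pair_iff' hv0).2 fun a => (hne a).symm
      have hlin : X.mulVecLin = 0 := by
        refine (basisOfLinearIndependentOfCardEqFinrank hli (by simp)).ext fun i => ?_
        fin_cases i <;> simp [hv, hXmv]
      exact Matrix.ext fun i j => by
        simpa [Matrix.mulVec_single] using congrFun (LinearMap.congr_fun hlin (Pi.single j 1)) i
    -- the eigenvalue is one
    have hiter : ∀ n : ℕ, ((m : Matrix (Fin 2) (Fin 2) F) ^ n).mulVec v = a ^ n • v := by
      intro n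
      induction n with
      | zero => simp
      | succ n ih =>
        rw [pow_succ, ← Matrix.mulVec_mulVec, ha, Matrix.mulVec_smul, ih, smul_smul, pow_succ']
    have hm' : (m : Matrix (Fin 2) (Fin 2) F) ^ Nat.card A = 1 := by
      rw [← Matrix.SpecialLinearGroup.coe_pow, show m ^ Nat.card A = 1 from
        congrArg Subtype.val (pow_card_eq_one' (x := (⟨m, hm⟩ : A))), Matrix.SpecialLinearGroup.coe_one]
    have hacard : a ^ Nat.card A = 1 := by
      have h2 := hiter (Nat.card A)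
      rw [hm', Matrix.one_mulVec] at h2
      have h3 : (a ^ Nat.card A - 1) • v = 0 := by rw [sub_smul, one_smul, ← h2, sub_self]
      exact sub_eq_zero.1 ((smul_eq_zero.1 h3).resolve_right hv0)
    have ha0 : a ≠ 0 := fun e => by
      rw [e, zero_pow (by omega)] at hacard
      exact zero_ne_one hacard
    have ha1 : a = 1 := by
      have h2 := FiniteField.pow_card_sub_one_eq_one a ha0
      have hsq : a ^ 2 = 1 := by
        have h3 : a ^ Nat.card A = a ^ (Fintype.card F - 1) * a ^ 2 := by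
          rw [← pow_add]
          congr 1
          have := Fintype.card_pos (α := F)
          omega
        rwa [hacard, h2, one_mul, eq_comm] at h3
      have h4 : (a - 1) * (a - 1) = 0 := by
        have h5 : (2 : F) = 0 := CharTwo.two_eq_zero
        linear_combination hsq - (a - 1) * h5
      exact sub_eq_zero.1 (mul_self_eq_zero.1 h4)
    rw [ha1, one_smul] at ha
    -- hence `m` is unipotent
    set P : Matrix (Fin 2) (Fin 2) F := (m : Matrix (Fin 2) (Fin 2) F) with hP
    have hPdet : P.det = 1 := m.2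
    have hd1 : (P - 1).det = 0 := Matrix.exists_mulVec_eq_zero_iff.1
      ⟨v, hv0, by rw [Matrix.sub_mulVec, ha, Matrix.one_mulVec, sub_self]⟩
    have htr : P 0 0 + P 1 1 = 0 := by
      rw [Matrix.det_fin_two] at hPdet hd1
      simp only [Matrix.sub_apply, Matrix.one_apply_eq, ne_eq, Fin.zero_ne_one, not_false_eq_true,
        Matrix.one_apply_ne, sub_zero, Fin.one_eq_zero_iff, OfNat.ofNat_ne_one] at hd1
      have h5 : (2 : F) = 0 := CharTwo.two_eq_zero
      linear_combination hPdet - hd1 + h5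
    have hPP : P * P = 1 := by
      rw [Matrix.det_fin_two] at hPdet
      have h5 : (2 : F) = 0 := CharTwo.two_eq_zero
      ext i j
      fin_cases i <;> fin_cases j <;>
        simp only [Fin.isValue, Matrix.mul_apply, Fin.sum_univ_two, Matrix.one_apply, Fin.zero_eta, Fin.mk_one,
          zero_ne_one, one_ne_zero, if_true, if_false]
      · linear_combination (P 0 0) * htr - hPdet - h5
      · linear_combination (P 0 1) * htr
      · linear_combination (P 1 0) * htr
      · linear_combination (P 1 1) * htr - hPdet - h5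
    have hmm : orderOf m ∣ 2 := orderOf_dvd_of_pow_eq_one (Subtype.ext (by
      rw [Matrix.SpecialLinearGroup.coe_pow, pow_two, ← hP, hPP, Matrix.SpecialLinearGroup.coe_one]))
    rcases (Nat.dvd_prime Nat.prime_two).1 hmm with e | e
    · exact hm1 (orderOf_eq_one_iff.1 e)
    · have h6 : orderOf (⟨m, hm⟩ : A) ∣ Nat.card A := orderOf_dvd_natCard _
      rw [Subgroup.orderOf_mk, e] at h6
      exact Nat.not_even_iff_odd.2 hodd (even_iff_two_dvd.2 h6)
  haveI : NoZeroDivisors C := ⟨fun {X Y} hXY => by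
    by_contra hne
    push Not at hne
    have e : (X : Matrix (Fin 2) (Fin 2) F) * Y = 0 := congrArg Subtype.val hXY
    refine mul_ne_zero (hdet X X.2 fun e => hne.1 (Subtype.ext e)) (hdet Y Y.2 fun e => hne.2 (Subtype.ext e)) ?_
    rw [← Matrix.det_mul, e, Matrix.det_zero]⟩
  haveI : IsDomain C := NoZeroDivisors.to_isDomain C
  letI : Fintype C := Fintype.ofFinite _
  letI : DivisionRing C := Fintype.divisionRingOfIsDomain C
  letI : Field C := littleWedderburn C
  let f : A →* C :=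
    { toFun := fun a => ⟨((a : Matrix.SpecialLinearGroup (Fin 2) F) : Matrix (Fin 2) (Fin 2) F), by
        rw [hC, Subalgebra.mem_centralizer_iff]
        rintro _ rfl
        exact congrArg Subtype.val (hA m hm a a.2).eq⟩
      map_one' := rfl
      map_mul' := fun _ _ => rfl }
  exact isCyclic_of_subgroup_isDomain f fun a b e =>
    Subtype.ext (Subtype.ext (congrArg (fun X : C => (X : Matrix (Fin 2) (Fin 2) F)) e))

variable {G : Type*} [Group G]

namespace Hyp

variable [Finite G] {M : Subgroup G} {z : G} (h : Hyp M z)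
include h

section

variable (hr : 2 ≤ rr M z)
include hr

theorem eq_one_or_z {y : G} (hy : y ∈ cc M z) : y = 1 ∨ y = z := by
  refine or_iff_not_imp_left.2 fun hy1 => h.eq_z (orderOf_eq_two ?_ hy1) hy
  have h1 : (⟨y, hy⟩ : cc M z) ^ Nat.card (cc M z) = 1 := pow_card_eq_one'
  rw [h.card_cc_eq_two hr, pow_two] at h1
  exact congrArg Subtype.val h1

theorem sq_cent {g : G} (hg : Commute g z) : g * g = 1 := by
  by_cases hgN : g ∈ nn M
  · rcases h.eq_one_or_z hr (y := g) ⟨hgN, Subgroup.mem_centralizer_singleton_iff.2 hg.eq⟩ with rfl | rfl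
    · rw [one_mul]
    · exact mul_self h.hz
  · exact mul_self (h.outside_cent hg hgN).1

theorem cent_card : Nat.card (Subgroup.centralizer ({z} : Set G)) = (rr M z + 1) * 2 := by
  rw [h.card_cent, h.card_cc_eq_two hr]

theorem isPGroup_cent : IsPGroup 2 (Subgroup.centralizer ({z} : Set G)) := fun g => ⟨1, Subtype.ext (by
  rw [pow_one, Subgroup.coe_pow, pow_two]
  exact h.sq_cent hr (Subgroup.mem_centralizer_singleton_iff.1 g.2))⟩

theorem exists_two_pow : ∃ d : ℕ, 2 ≤ d ∧ rr M z + 1 = 2 ^ d := by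
  haveI : Fact (Nat.Prime 2) := ⟨Nat.prime_two⟩
  obtain ⟨e, he⟩ := (h.isPGroup_cent hr).exists_card_eq
  obtain ⟨d, -, hd⟩ := (Nat.dvd_prime_pow Nat.prime_two).1 (he ▸ h.cent_card hr ▸ dvd_mul_right (rr M z + 1) 2 :
    rr M z + 1 ∣ 2 ^ e)
  refine ⟨d, ?_, hd⟩
  rcases d with _ | _ | d
  · rw [pow_zero] at hd; omega
  · rw [zero_add, pow_one] at hd; omega
  · omega

theorem card_M_cases : Nat.card M = rr M z + 1 + 1 ∨ Nat.card M = 2 * (rr M z + 1) + 1 := by
  obtain ⟨d, hd2, hd⟩ := h.exists_two_pow hr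
  have h1 : Nat.card (Subgroup.centralizer ({z} : Set G)) ∣ Nat.card G := Subgroup.card_subgroup_dvd_card _
  rw [h.cent_card hr, h.card_group, h.card_cc_eq_two hr, ← mul_assoc] at h1
  have h2 := Nat.dvd_of_mul_dvd_mul_right two_pos h1
  have hco : Nat.Coprime (rr M z + 1) (Nat.card M) := by
    rw [hd]
    exact Nat.Coprime.pow_left _ (Nat.coprime_two_left.2 h.odd_card)
  have h3 := hco.dvd_of_dvd_mul_right h2
  have h3' : rr M z + 1 ∣ Nat.card M - 1 := by
    have h4 : rr M z + 1 ∣ Nat.card M * (rr M z + 1) := dvd_mul_left _ _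
    have h5 := Nat.dvd_sub h4 h3
    rwa [Nat.mul_add, mul_one, Nat.add_sub_add_left] at h5
  obtain ⟨t, ht⟩ := h3'
  have h4 := h.class_le
  rw [h.card_cc_eq_two hr] at h4
  have h5 := h.three_le
  have hk : Nat.card M = (rr M z + 1) * t + 1 := by omega
  rw [hk] at h4
  have ht2 : t ≤ 2 := by
    by_contra hlt
    have h6 : ((rr M z + 1) * 3 + 1) * rr M z + 1 ≤ ((rr M z + 1) * t + 1) * rr M z + 1 := by
      gcongr; omega
    nlinarith
  interval_cases t <;> omega

theorem exists_psl_two (hk : Nat.card M = 2 * (rr M z + 1) + 1) :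
    ∃ (F : Type) (_ : Field F) (_ : Fintype F) (e : ℕ), 1 < e ∧ Fintype.card F = 2 ^ e ∧ IsCyclic ↥M ∧
      Nat.card M = 2 ^ e + 1 ∧ Nonempty (G ≃* Matrix.ProjectiveSpecialLinearGroup (Fin 2) F) := by
  classical
  haveI : Fact (Nat.Prime 2) := ⟨Nat.prime_two⟩
  obtain ⟨d, hd2, hd⟩ := h.exists_two_pow hr
  have hc := h.card_cc_eq_two hr
  have heq : Nat.card M * rr M z + 1 = (rr M z + 1) * (rr M z * Nat.card (cc M z) + 1) := by
    rw [hk, hc]; ring
  set E := Subgroup.centralizer ({z} : Set G) with hE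
  have hEcard := h.cent_card hr
  have hnd : ¬ 2 ∣ E.index := by
    have h1 := E.card_mul_index
    rw [h.card_group, hEcard, hc, hk] at h1
    have h2 : E.index = (2 * rr M z + 1) * (2 * (rr M z + 1) + 1) := by
      refine Nat.eq_of_mul_eq_mul_left (show 0 < (rr M z + 1) * 2 by omega) ?_
      rw [h1]; ring
    rw [h2]
    exact (Nat.prime_two.dvd_mul).not.2 (by omega)
  let T : Sylow 2 G := (h.isPGroup_cent hr).toSylow hnd
  have hT : (T : Subgroup G) = E := rfl
  have hconj : ∀ t : G, orderOf t = 2 → ∀ c ∈ Subgroup.centralizer ({t} : Set G), c * c = 1 := by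
    intro t ht c hct
    obtain ⟨g, rfl⟩ := isConj_iff.1 (h.isConj_of_eq heq ht)
    have hct' : c * (g * z * g⁻¹) = g * z * g⁻¹ * c := Subgroup.mem_centralizer_singleton_iff.1 hct
    have h1 := h.sq_cent hr (g := g⁻¹ * c * g) (show g⁻¹ * c * g * z = z * (g⁻¹ * c * g) by
      calc g⁻¹ * c * g * z = g⁻¹ * (c * (g * z * g⁻¹)) * g := by group
        _ = g⁻¹ * (g * z * g⁻¹ * c) * g := by rw [hct']
        _ = _ := by group)
    calc c * c = g * (g⁻¹ * c * g * (g⁻¹ * c * g)) * g⁻¹ := by group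
      _ = 1 := by rw [h1]; group
  have hHyp : CfsgLib.Involution.ElemCentralizer.Hyp T := by
    refine ⟨?_, ?_, fun t ht => ⟨⟨⟨fun a b => Subtype.ext ?_⟩⟩, fun c hc' => by
      rw [pow_two]; exact hconj t ht c hc'⟩⟩
    · rw [hT]
      intro hcyc
      haveI := hcyc
      have hexp : Monoid.exponent E ∣ 2 := Monoid.exponent_dvd_of_forall_pow_eq_one fun g => Subtype.ext (by
        rw [Subgroup.coe_pow, pow_two]
        exact h.sq_cent hr (Subgroup.mem_centralizer_singleton_iff.1 g.2))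
      rw [IsCyclic.exponent_eq_card, hEcard] at hexp
      have := Nat.le_of_dvd two_pos hexp
      omega
    · rw [hT]
      intro hn
      obtain ⟨m, hm, hm1⟩ := M.bot_or_exists_ne_one.resolve_left h.ne
      have h1 : m * z * m⁻¹ ∈ E := hn.conj_mem z (Subgroup.mem_centralizer_singleton_iff.2 rfl) m
      have h2 : m * m ∈ E := by
        have h3 := mul_mem h1 (show z ∈ E from Subgroup.mem_centralizer_singleton_iff.2 rfl)
        rwa [show m * z * m⁻¹ * z = m * (z * m⁻¹ * z⁻¹) * (z * z) by group, mul_self h.hz, mul_one,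
          h.inverts h.hz h.hzN (inv_mem hm), inv_inv] at h3
      have h4 := h.eq_one_of_commute h.hz (mul_mem hm hm)
        (Subgroup.mem_centralizer_singleton_iff.1 h2).symm
      have h5 := h.odd_order hm
      rcases (Nat.dvd_prime Nat.prime_two).1 (orderOf_dvd_of_pow_eq_one (show m ^ 2 = 1 by rw [pow_two]; exact h4))
        with e | e
      · exact hm1 (orderOf_eq_one_iff.1 e)
      · rw [e] at h5; exact Nat.not_odd_iff_even.2 even_two h5
    · have ha := hconj t ht _ a.2
      have hb := hconj t ht _ b.2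
      have hab := hconj t ht _ (mul_mem a.2 b.2)
      calc (a : G) * b = ((a : G) * b)⁻¹ := (inv_eq_of_mul_eq_one_left hab).symm
        _ = (b : G) * a := by
          rw [mul_inv_rev, inv_eq_of_mul_eq_one_left ha, inv_eq_of_mul_eq_one_left hb]
  obtain ⟨F, hF, hFt, hFc, ⟨e⟩⟩ := CfsgLib.Involution.RecognisePSL2.nonempty_mulEquiv hHyp
  have hTc : Nat.card (T : Subgroup G) = 2 ^ (d + 1) := by rw [hT, hEcard, pow_succ, hd]
  have hFc' : Fintype.card F = 2 ^ (d + 1) := hFc.trans hTc
  haveI : CharP F 2 := charP_of_card_eq_prime_pow (f := d + 1) hFc'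
  have hkc : Nat.card M = 2 ^ (d + 1) + 1 := by rw [hk, hd, pow_succ]; ring
  refine ⟨F, hF, hFt, d + 1, by omega, hFc', ?_, hkc, ⟨e⟩⟩
  obtain ⟨e'⟩ := CfsgLib.Perm.SharpThreeOdd.psl_equiv_sl (F := F)
  let ψ := (e.trans e').toMonoidHom
  have hψ : Function.Injective ψ := (e.trans e').injective
  let ι := M.equivMapOfInjective ψ hψ
  haveI : IsCyclic (M.map ψ) := isCyclic_of_card_succ (M.map ψ)
    (by rintro _ ⟨a, ha, rfl⟩ _ ⟨b, hb, rfl⟩; exact (h.comm ha hb).map ψ)
    (by rw [← Nat.card_congr ι.toEquiv, hkc, hFc'])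
    (by rw [← Nat.card_congr ι.toEquiv]; exact h.odd_card)
  exact ι.isCyclic.2 inferInstance

theorem exists_affine (hk : Nat.card M = rr M z + 1 + 1) :
    ∃ (d : ℕ) (E : Subgroup G), 1 ≤ d ∧ E.Normal ∧ Cfsg.IsElementaryAbelian 2 E ∧ Nat.card E = 2 ^ (2 * d) ∧
      E ⊓ nn M = ⊥ ∧ E ⊔ nn M = ⊤ ∧ Nonempty (↥(nn M) ≃* DihedralGroup (2 ^ d + 1)) := by
  classical
  haveI : Fact (Nat.Prime 2) := ⟨Nat.prime_two⟩
  obtain ⟨d, hd2, hd⟩ := h.exists_two_pow hr
  have hc := h.card_cc_eq_two hr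
  have hkd : Nat.card M = 2 ^ d + 1 := by rw [hk, hd]
  have hn : Nat.card M * rr M z + 1 = 2 ^ d * 2 ^ d := by rw [← hd, hk]; ring
  have hG : Nat.card G = 2 ^ (2 * d + 1) * Nat.card M := by
    rw [h.card_group, hn, hc, pow_succ, two_mul, pow_add]; ring
  -- factorisation by a Sylow subgroup
  obtain ⟨T⟩ : Nonempty (Sylow 2 G) := inferInstance
  have hTc : Nat.card (T : Subgroup G) = 2 ^ (2 * d + 1) := by
    rw [T.card_eq_multiplicity, hG, Nat.factorization_mul (pow_ne_zero _ two_ne_zero) (by have := h.three_le; omega),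
      Finsupp.add_apply, Nat.Prime.factorization_pow Nat.prime_two, Finsupp.single_eq_same,
      Nat.factorization_eq_zero_of_not_dvd (fun e => Nat.not_even_iff_odd.2 h.odd_card (even_iff_two_dvd.2 e)),
      add_zero]
  have hdisj : (T : Subgroup G) ⊓ M = ⊥ := Subgroup.inf_eq_bot_of_coprime (by
    rw [hTc]; exact Nat.Coprime.pow_left _ (Nat.coprime_two_left.2 h.odd_card))
  have hfac : ∀ g : G, ∃ a ∈ (T : Subgroup G), ∃ b ∈ M, g = a * b := by
    intro g
    let f : ↥(T : Subgroup G) × ↥M → G := fun p => (p.1 : G) * p.2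
    have hf : Function.Injective f := by
      rintro ⟨a, b⟩ ⟨a', b'⟩ e
      have e' : (a : G) * b = (a' : G) * b' := e
      have h1 : (a' : G)⁻¹ * a = (b' : G) * (b : G)⁻¹ := by
        calc (a' : G)⁻¹ * a = (a' : G)⁻¹ * ((a : G) * b) * (b : G)⁻¹ := by group
          _ = (a' : G)⁻¹ * ((a' : G) * b') * (b : G)⁻¹ := by rw [e']
          _ = _ := by group
      have h2 : (a' : G)⁻¹ * a ∈ (T : Subgroup G) ⊓ M :=
        Subgroup.mem_inf.2 ⟨(T : Subgroup G).mul_mem ((T : Subgroup G).inv_mem a'.2) a.2,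
          h1 ▸ M.mul_mem b'.2 (M.inv_mem b.2)⟩
      rw [hdisj, Subgroup.mem_bot] at h2
      obtain rfl : a' = a := Subtype.ext (inv_mul_eq_one.1 h2)
      exact Prod.ext rfl (Subtype.ext (mul_left_cancel e'))
    obtain ⟨p, hp⟩ := ((Nat.bijective_iff_injective_and_card f).2
      ⟨hf, by rw [Nat.card_prod, hTc, hG]⟩).2 g
    exact ⟨p.1, p.1.2, p.2, p.2.2, hp.symm⟩
  haveI hMn : Group.IsNilpotent M := by
    letI : CommGroup M := { (inferInstance : Group M) with mul_comm := fun a b => Subtype.ext (h.comm a.2 b.2).eq }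
    infer_instance
  haveI hsolv : Group.IsSolvable G :=
    CfsgLib.Solvable.KegelWielandt.isSolvable (T : Subgroup G) M T.2.isNilpotent hMn hfac
  haveI : Nontrivial G := ⟨⟨z, 1, ne_one h.hz⟩⟩
  obtain ⟨E, hEn, hE1, -, hmin⟩ := CfsgLib.Solvable.Basic.exists_minimal_normal_le (H := (⊤ : Subgroup G)) top_ne_bot
  haveI := hEn
  obtain ⟨hEc, p, hp, hexp, hEp⟩ := CfsgLib.Solvable.Basic.minimal_normal_solvable E hE1 hmin
  haveI : Fact p.Prime := ⟨hp⟩
  -- `E` meets the normaliser trivially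
  have hEM : ∀ m ∈ M, m ∈ E → m = 1 := by
    intro m hm hmE
    by_contra hm1
    refine hm1 ?_
    haveI := h.faithful
    refine eq_of_smul_eq_smul (α := G ⧸ nn M) fun x => ?_
    obtain ⟨g, rfl⟩ := MulAction.exists_smul_eq G (base M) x
    have h1 : g⁻¹ * m * g ∈ E := by simpa using hEn.conj_mem m hmE g⁻¹
    have h2 : g⁻¹ * m * g ∈ nn M := h.mem_nn_of_commute hm hm1
      (congrArg Subtype.val (hEc.is_comm.comm ⟨_, h1⟩ ⟨m, hmE⟩))
    rw [one_smul]
    conv_lhs => rw [show m = g * (g⁻¹ * m * g) * g⁻¹ by group]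
    rw [mul_smul, mul_smul, inv_smul_smul, smul_base_eq.2 h2]
  have hEN : E ⊓ nn M = ⊥ := by
    rw [eq_bot_iff]
    intro x hx
    rw [Subgroup.mem_bot]
    obtain ⟨m, hm, y, hy, rfl⟩ := h.exists_decomp hx.2
    rcases h.eq_one_or_z hr hy with rfl | hyz
    · rw [mul_one] at hx ⊢
      exact hEM m hm hx.1
    · rw [hyz] at hx
      exfalso
      obtain ⟨a, ha, ha1⟩ := M.bot_or_exists_ne_one.resolve_left h.ne
      have hinv := h.inverts (h.orderOf_mul_z hm) (h.mul_z_mem hm) (inv_mem ha)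
      have h1 : a * (m * z) * a⁻¹ * (m * z)⁻¹ ∈ E := mul_mem (hEn.conj_mem _ hx.1 a) (inv_mem hx.1)
      rw [show a * (m * z) * a⁻¹ * (m * z)⁻¹ = a * ((m * z) * a⁻¹ * (m * z)⁻¹) by group, hinv, inv_inv] at h1
      have h2 := hEM _ (mul_mem ha ha) h1
      have h5 := h.odd_order ha
      rcases (Nat.dvd_prime Nat.prime_two).1 (orderOf_dvd_of_pow_eq_one (show a ^ 2 = 1 by rw [pow_two]; exact h2))
        with e | e
      · exact ha1 (orderOf_eq_one_iff.1 e)
      · rw [e] at h5; exact Nat.not_odd_iff_even.2 even_two h5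
  have hfpf : ∀ a ∈ M, a ≠ 1 → E ⊓ Subgroup.centralizer {a} = ⊥ := fun a ha ha1 => eq_bot_iff.2 fun x hx => by
    rw [← hEN]
    exact ⟨hx.1, h.mem_nn_of_commute ha ha1 (Subgroup.mem_centralizer_singleton_iff.1 hx.2)⟩
  have hME : M ≤ Subgroup.normalizer (E : Set G) := by
    rw [Subgroup.normalizer_eq_top]; exact le_top
  -- the order of `E`
  obtain ⟨s, hs⟩ := hEp.exists_card_eq
  have hnn : Nat.card (nn M) = 2 * Nat.card M := by rw [h.card_nn, hc, mul_comm]
  have hle : Nat.card E ≤ 2 ^ (2 * d) := by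
    have h1 : Nat.card (E × nn M) ≤ Nat.card G := Nat.card_le_card_of_injective
      (fun p : E × nn M => (p.1 : G) * p.2) (by
      rintro ⟨a, b⟩ ⟨a', b'⟩ e
      have e' : (a : G) * b = (a' : G) * b' := e
      have h1 : (a' : G)⁻¹ * a = (b' : G) * (b : G)⁻¹ := by
        calc (a' : G)⁻¹ * a = (a' : G)⁻¹ * ((a : G) * b) * (b : G)⁻¹ := by group
          _ = (a' : G)⁻¹ * ((a' : G) * b') * (b : G)⁻¹ := by rw [e']
          _ = _ := by group
      have h2 : (a' : G)⁻¹ * a ∈ E ⊓ nn M :=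
        Subgroup.mem_inf.2 ⟨E.mul_mem (E.inv_mem a'.2) a.2,
          h1 ▸ (nn M).mul_mem b'.2 ((nn M).inv_mem b.2)⟩
      rw [hEN, Subgroup.mem_bot] at h2
      obtain rfl : a' = a := Subtype.ext (inv_mul_eq_one.1 h2)
      exact Prod.ext rfl (Subtype.ext (mul_left_cancel e')))
    rw [Nat.card_prod, hnn, hG, pow_succ, mul_assoc] at h1
    exact Nat.le_of_mul_le_mul_right h1 (by have := h.three_le; omega)
  have hco : (Nat.card M).Coprime (Nat.card E) := CfsgLib.FrobRealize.FPF.coprime_card hME hfpf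
  have hdvd : Nat.card E ∣ 2 ^ (2 * d + 1) := by
    refine Nat.Coprime.dvd_of_dvd_mul_right hco.symm ?_
    rw [← hG]; exact Subgroup.card_subgroup_dvd_card E
  have hE2 : 1 < Nat.card E := (Subgroup.one_lt_card_iff_ne_bot E).2 hE1
  obtain rfl : p = 2 := by
    refine (Nat.prime_dvd_prime_iff_eq hp Nat.prime_two).1 (hp.dvd_of_dvd_pow (dvd_trans ?_ hdvd))
    rw [hs]
    exact dvd_pow_self p fun e => by rw [hs, e, pow_zero] at hE2; omega
  have hdiv : Nat.card M ∣ Nat.card E - 1 := by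
    let T' := {u : E // u ≠ 1}
    letI := Fintype.ofFinite E
    have hT : Nat.card T' = Nat.card E - 1 := by
      rw [Nat.card_eq_fintype_card, Nat.card_eq_fintype_card, Fintype.card_subtype_compl,
        Fintype.card_subtype_eq]
    letI : MulAction M T' :=
      { smul := fun y u => ⟨⟨(y : G) * (u.1 : G) * (y : G)⁻¹, hEn.conj_mem _ u.1.2 _⟩, fun e =>
          u.2 (Subtype.ext (conj_eq_one_iff.mp (congrArg Subtype.val e)))⟩
        one_smul := fun u => Subtype.ext (Subtype.ext (by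
          show ((1 : M) : G) * (u.1 : G) * ((1 : M) : G)⁻¹ = u.1; simp))
        mul_smul := fun a b u => Subtype.ext (Subtype.ext (by
          show ((a * b : M) : G) * (u.1 : G) * ((a * b : M) : G)⁻¹ =
            (a : G) * ((b : G) * (u.1 : G) * (b : G)⁻¹) * (a : G)⁻¹
          simp [mul_assoc])) }
    have hstab : ∀ u : T', stabilizer M u = ⊥ := fun u => eq_bot_iff.mpr fun y hy => by
      rw [Subgroup.mem_bot]
      by_contra hy1
      have hu : (u.1 : G) ∈ E ⊓ Subgroup.centralizer {(y : G)} := ⟨u.1.2,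
        Subgroup.mem_centralizer_singleton_iff.2
          (mul_inv_eq_iff_eq_mul.1 (congrArg (fun w : T' => (w.1 : G)) hy)).symm⟩
      rw [hfpf _ y.2 fun e => hy1 (Subtype.ext e), Subgroup.mem_bot] at hu
      exact u.2 (Subtype.ext hu)
    haveI : Finite (orbitRel.Quotient M T') := Quotient.finite _
    letI := Fintype.ofFinite (orbitRel.Quotient M T')
    rw [← hT, Nat.card_congr (selfEquivSigmaOrbits M T'), Nat.card_sigma]
    refine Finset.dvd_sum fun q _ => dvd_of_eq ?_
    have h1 := Nat.card_congr (orbitProdStabilizerEquivGroup M q.out)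
    rw [Nat.card_prod, hstab, Subgroup.card_bot, mul_one] at h1
    exact h1.symm
  have hs2 : s = 2 * d := by
    have hs2d : s ≤ 2 * d := (Nat.pow_le_pow_iff_right (le_refl 2)).1 (hs ▸ hle)
    rw [hs, hkd] at hdiv
    have h2s : 2 ≤ 2 ^ s := by rw [← hs]; omega
    rcases Nat.lt_or_ge d s with hds | hds
    · obtain ⟨t, rfl⟩ := Nat.exists_eq_add_of_le hds.le
      -- `2 ^ (d + t) - 1 = (2 ^ d + 1) 2 ^ t - (2 ^ t + 1)`
      have h1 : 2 ^ d + 1 ∣ 2 ^ t + 1 := by
        have h2 : 2 ^ d + 1 ∣ (2 ^ d + 1) * 2 ^ t := dvd_mul_right _ _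
        have h3 := Nat.dvd_sub h2 hdiv
        have h4 : (2 ^ d + 1) * 2 ^ t - (2 ^ (d + t) - 1) = 2 ^ t + 1 := by
          rw [add_mul, one_mul, ← pow_add]
          have := Nat.one_le_two_pow (n := d + t)
          generalize 2 ^ (d + t) = A at *
          generalize 2 ^ t = B at *
          omega
        rwa [h4] at h3
      have h5 : 2 ^ d ≤ 2 ^ t := Nat.succ_le_succ_iff.1 (Nat.le_of_dvd (Nat.succ_pos _) h1)
      have h6 := (Nat.pow_le_pow_iff_right (le_refl 2)).1 h5
      omega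
    · have := Nat.le_of_dvd (by omega) hdiv
      have := Nat.pow_le_pow_right two_pos hds
      omega
  have hEcard : Nat.card E = 2 ^ (2 * d) := by rw [hs, hs2]
  have hsup : E ⊔ nn M = ⊤ := by
    refine Subgroup.eq_top_of_card_eq _ (le_antisymm (Subgroup.card_le_card_group _) ?_)
    calc Nat.card G = Nat.card E * Nat.card (nn M) := by rw [hEcard, hnn, hG, pow_succ]; ring
      _ = Nat.card (E × nn M) := (Nat.card_prod _ _).symm
      _ ≤ Nat.card ↥(E ⊔ nn M) := Nat.card_le_card_of_injective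
          (fun p : E × nn M => (⟨(p.1 : G) * p.2, mul_mem (Subgroup.mem_sup_left p.1.2)
            (Subgroup.mem_sup_right p.2.2)⟩ : ↥(E ⊔ nn M))) (by
          rintro ⟨a, b⟩ ⟨a', b'⟩ e
          have e' : (a : G) * b = (a' : G) * b' := congrArg Subtype.val e
          have h1 : (a' : G)⁻¹ * a = (b' : G) * (b : G)⁻¹ := by
            calc (a' : G)⁻¹ * a = (a' : G)⁻¹ * ((a : G) * b) * (b : G)⁻¹ := by group
              _ = (a' : G)⁻¹ * ((a' : G) * b') * (b : G)⁻¹ := by rw [e']
              _ = _ := by group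
          have h2 : (a' : G)⁻¹ * a ∈ E ⊓ nn M :=
            Subgroup.mem_inf.2 ⟨E.mul_mem (E.inv_mem a'.2) a.2,
              h1 ▸ (nn M).mul_mem b'.2 ((nn M).inv_mem b.2)⟩
          rw [hEN, Subgroup.mem_bot] at h2
          obtain rfl : a' = a := Subtype.ext (inv_mul_eq_one.1 h2)
          exact Prod.ext rfl (Subtype.ext (mul_left_cancel e')))
  -- the normaliser
  haveI : IsCyclic M := CfsgLib.FrobRealize.FPF.isCyclic_of_comm hE1 hME hfpf
    ⟨⟨fun a b => Subtype.ext (h.comm a.2 b.2).eq⟩⟩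
  obtain ⟨a, ha⟩ := IsCyclic.exists_ofOrder_eq_natCard (α := M)
  have hzM : z ∉ M := fun e => ne_one h.hz (h.eq_one_of_commute h.hz e (Commute.refl _))
  have hdih := CfsgLib.TwoGroups.CyclicMax.dihedral_iso (G := nn M)
    (a := ⟨(a : G), Subgroup.le_normalizer a.2⟩) (b := ⟨z, h.hzN⟩) (m := 2 ^ d + 1)
    (by rw [Subgroup.orderOf_mk, Subgroup.orderOf_coe, ha, hkd]) (by rw [hnn, hkd])
    (fun e => by
      obtain ⟨i, hi⟩ := Subgroup.mem_zpowers_iff.1 e
      have hi' : (a : G) ^ i = z := by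
        simpa using congrArg (Subgroup.subtype (nn M)) hi
      exact hzM (hi' ▸ zpow_mem a.2 i))
    (Subtype.ext (mul_self h.hz)) (Subtype.ext (h.inverts h.hz h.hzN a.2))
  refine ⟨d, E, by omega, hEn, ⟨hEc, fun x hx => ?_⟩, hEcard, hEN, hsup, hdih⟩
  exact hexp x hx

end

end Hyp

end CfsgLib.Characterizations.TICount
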